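import Cfsg.Agent.H15.Hn.CD
set_option autoImplicit false
set_option maxRecDepth 100000

namespace Cfsg.Agent.H15.Hn
open Cfsg.Agent.H15 Cfsg.Agent.H14

set_option Elab.async false

theorem alq1 : satChk (fun x l => tr MM.ap (nthW als l) x) 20 MM.bs (idW 20) ([0].map (repL alz)) Alt12.pT ((Alt12.pB.drop 8).take 7) = true := by decide +kernel
theorem MMk14 : RAll MM.okL 14 22 := RAll.of (by decide +kernel)
theorem MMk22 : RAll MM.okL 22 30 := RAll.of (by decide +kernel)
theorem MMk10 : RAll MM.okL 10 11 := RAll.of (by decide +kernel)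
theorem MMk70 : RAll MM.okL 70 71 := RAll.of (by decide +kernel)
theorem MMk60 : RAll MM.okL 60 61 := RAll.of (by decide +kernel)
theorem MMk74 : RAll MM.okL 74 77 := RAll.of (by decide +kernel)
theorem sM6 : allL ((BF.drop 10).take 4) (fun p => okW 8 p.1 && eqOn MM.ap MM.L MM.bs (repL p.1 p.2) []) = true := by decide +kernel
theorem alc16 : RAll (fun l => eqOn (fun x l => tr MM.ap (nthW als l) x) 20 MM.bs (appL [l] alz) (appL alz [l])) 16 20 := RAll.of (by decide +kernel)
theorem c5x0 : exOk MM.ap MM.L (Nat.shiftLeft 1 (Nat.mul MM.w MM.m)) c5S0 [] c5b0 5 c5o0 = true := by decide +kernel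

end Cfsg.Agent.H15.Hn
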