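import Cfsg.Agent.H15.Hn.CD
set_option autoImplicit false
set_option maxRecDepth 100000

namespace Cfsg.Agent.H15.Hn
open Cfsg.Agent.H15 Cfsg.Agent.H14

set_option Elab.async false

theorem alq0 : satChk (fun x l => tr MM.ap (nthW als l) x) 20 MM.bs (idW 20) ([0].map (repL alz)) Alt12.pT ((Alt12.pB.drop 0).take 8) = true := by decide +kernel
theorem alq6 : satChk (fun x l => tr MM.ap (nthW als l) x) 20 MM.bs (idW 20) ([0].map (repL alz)) Alt12.pT ((Alt12.pB.drop 39).take 6) = true := by decide +kernel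
theorem MMk42 : RAll MM.okL 42 45 := RAll.of (by decide +kernel)
theorem sM3 : allL ((BF.drop 5).take 3) (fun p => okW 8 p.1 && eqOn MM.ap MM.L MM.bs (repL p.1 p.2) []) = true := by decide +kernel
theorem MMk66 : RAll MM.okL 66 70 := RAll.of (by decide +kernel)
theorem alc0 : RAll (fun l => eqOn (fun x l => tr MM.ap (nthW als l) x) 20 MM.bs (appL [l] alz) (appL alz [l])) 0 8 := RAll.of (by decide +kernel)
theorem c2x8 : exOk MM.ap MM.L (Nat.shiftLeft 1 (Nat.mul MM.w MM.m)) c2S8 c2T7 c2b8 120 c2o8 = true := by decide +kernel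
theorem c5x2 : exOk MM.ap MM.L (Nat.shiftLeft 1 (Nat.mul MM.w MM.m)) c5S2 c5T1 c5b2 125 c5o2 = true := by decide +kernel
theorem c2x6 : exOk MM.ap MM.L (Nat.shiftLeft 1 (Nat.mul MM.w MM.m)) c2S6 c2T5 c2b6 12 c2o6 = true := by decide +kernel
theorem aln : neAt (fun x l => tr MM.ap (nthW als l) x) 20 (Nat.shiftLeft 1 (Nat.mul MM.w MM.m)) (2 ^ 0) [0, 20 - 1] [20 - 1, 0] = true := by decide +kernel
theorem c2x0 : exOk MM.ap MM.L (Nat.shiftLeft 1 (Nat.mul MM.w MM.m)) c2S0 [] c2b0 2 c2o0 = true := by decide +kernel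
theorem c2x2 : exOk MM.ap MM.L (Nat.shiftLeft 1 (Nat.mul MM.w MM.m)) c2S2 c2T1 c2b2 2 c2o2 = true := by decide +kernel
theorem c5x1 : exOk MM.ap MM.L (Nat.shiftLeft 1 (Nat.mul MM.w MM.m)) c5S1 c5T0 c5b1 25 c5o1 = true := by decide +kernel

end Cfsg.Agent.H15.Hn
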