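import Cfsg.Agent.H15.Hn.CD
set_option autoImplicit false
set_option maxRecDepth 100000

namespace Cfsg.Agent.H15.Hn
open Cfsg.Agent.H15 Cfsg.Agent.H14

set_option Elab.async false

theorem alq2 : satChk (fun x l => tr MM.ap (nthW als l) x) 20 MM.bs (idW 20) ([0].map (repL alz)) Alt12.pT ((Alt12.pB.drop 15).take 6) = true := by decide +kernel
theorem alq7 : satChk (fun x l => tr MM.ap (nthW als l) x) 20 MM.bs (idW 20) ([0].map (repL alz)) Alt12.pT ((Alt12.pB.drop 45).take 6) = true := by decide +kernel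
theorem MMk64 : RAll MM.okL 64 66 := RAll.of (by decide +kernel)
theorem MMk50 : RAll MM.okL 50 53 := RAll.of (by decide +kernel)
theorem MMk61 : RAll MM.okL 61 62 := RAll.of (by decide +kernel)
theorem MMk53 : RAll MM.okL 53 55 := RAll.of (by decide +kernel)
theorem sM4 : allL ((BF.drop 8).take 1) (fun p => okW 8 p.1 && eqOn MM.ap MM.L MM.bs (repL p.1 p.2) []) = true := by decide +kernel
theorem g19b : eqOn MM.ap MM.L MM.bs (repL (76 :: [4]) 7) [] = true := by decide +kernel

end Cfsg.Agent.H15.Hn
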