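import Cfsg.Agent.H15.Hn.CD
set_option autoImplicit false
set_option maxRecDepth 100000

namespace Cfsg.Agent.H15.Hn
open Cfsg.Agent.H15 Cfsg.Agent.H14

set_option Elab.async false

theorem alq3 : satChk (fun x l => tr MM.ap (nthW als l) x) 20 MM.bs (idW 20) ([0].map (repL alz)) Alt12.pT ((Alt12.pB.drop 21).take 6) = true := by decide +kernel
theorem alq8 : satChk (fun x l => tr MM.ap (nthW als l) x) 20 MM.bs (idW 20) ([0].map (repL alz)) Alt12.pT ((Alt12.pB.drop 51).take 4) = true := by decide +kernel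
theorem MMk72 : RAll MM.okL 72 74 := RAll.of (by decide +kernel)
theorem MMk39 : RAll MM.okL 39 42 := RAll.of (by decide +kernel)
theorem MMk59 : RAll MM.okL 59 60 := RAll.of (by decide +kernel)
theorem sM0 : allL ((BF.drop 0).take 3) (fun p => okW 8 p.1 && eqOn MM.ap MM.L MM.bs (repL p.1 p.2) []) = true := by decide +kernel
theorem MMk57 : RAll MM.okL 57 59 := RAll.of (by decide +kernel)
theorem MMk8 : RAll MM.okL 8 10 := RAll.of (by decide +kernel)
theorem c2x3 : exOk MM.ap MM.L (Nat.shiftLeft 1 (Nat.mul MM.w MM.m)) c2S3 c2T2 c2b3 2 c2o3 = true := by decide +kernel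
theorem c3x0 : exOk MM.ap MM.L (Nat.shiftLeft 1 (Nat.mul MM.w MM.m)) c3S0 [] c3b0 3 c3o0 = true := by decide +kernel

end Cfsg.Agent.H15.Hn
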