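import Cfsg.Agent.H15.Hn.CD
set_option autoImplicit false
set_option maxRecDepth 100000

namespace Cfsg.Agent.H15.Hn
open Cfsg.Agent.H15 Cfsg.Agent.H14

set_option Elab.async false

theorem alq4 : satChk (fun x l => tr MM.ap (nthW als l) x) 20 MM.bs (idW 20) ([0].map (repL alz)) Alt12.pT ((Alt12.pB.drop 27).take 6) = true := by decide +kernel
theorem sM5 : allL ((BF.drop 9).take 1) (fun p => okW 8 p.1 && eqOn MM.ap MM.L MM.bs (repL p.1 p.2) []) = true := by decide +kernel
theorem MMk62 : RAll MM.okL 62 64 := RAll.of (by decide +kernel)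
theorem MMk36 : RAll MM.okL 36 39 := RAll.of (by decide +kernel)
theorem MMk30 : RAll MM.okL 30 36 := RAll.of (by decide +kernel)
theorem MMk0 : RAll MM.okL 0 8 := RAll.of (by decide +kernel)
theorem sM1 : allL ((BF.drop 3).take 1) (fun p => okW 8 p.1 && eqOn MM.ap MM.L MM.bs (repL p.1 p.2) []) = true := by decide +kernel
theorem sM2 : allL ((BF.drop 4).take 1) (fun p => okW 8 p.1 && eqOn MM.ap MM.L MM.bs (repL p.1 p.2) []) = true := by decide +kernel
theorem c3x2 : exOk MM.ap MM.L (Nat.shiftLeft 1 (Nat.mul MM.w MM.m)) c3S2 c3T1 c3b2 81 c3o2 = true := by decide +kernel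
theorem c2x4 : exOk MM.ap MM.L (Nat.shiftLeft 1 (Nat.mul MM.w MM.m)) c2S4 c2T3 c2b4 2 c2o4 = true := by decide +kernel
theorem c3x1 : exOk MM.ap MM.L (Nat.shiftLeft 1 (Nat.mul MM.w MM.m)) c3S1 c3T0 c3b1 3 c3o1 = true := by decide +kernel

end Cfsg.Agent.H15.Hn
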