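import Cfsg.Agent.H15.Hn.CD
set_option autoImplicit false
set_option maxRecDepth 100000

namespace Cfsg.Agent.H15.Hn
open Cfsg.Agent.H15 Cfsg.Agent.H14

set_option Elab.async false

theorem alq5 : satChk (fun x l => tr MM.ap (nthW als l) x) 20 MM.bs (idW 20) ([0].map (repL alz)) Alt12.pT ((Alt12.pB.drop 33).take 6) = true := by decide +kernel
theorem MMk12 : RAll MM.okL 12 14 := RAll.of (by decide +kernel)
theorem MMk45 : RAll MM.okL 45 50 := RAll.of (by decide +kernel)
theorem MMk11 : RAll MM.okL 11 12 := RAll.of (by decide +kernel)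
theorem MMk71 : RAll MM.okL 71 72 := RAll.of (by decide +kernel)
theorem MMk55 : RAll MM.okL 55 57 := RAll.of (by decide +kernel)
theorem alc8 : RAll (fun l => eqOn (fun x l => tr MM.ap (nthW als l) x) 20 MM.bs (appL [l] alz) (appL alz [l])) 8 16 := RAll.of (by decide +kernel)
theorem g19a : eqOn MM.ap MM.L MM.bs (repL [76] 19) [] = true := by decide +kernel
theorem MMkc : MM.okC = true := by decide +kernel
theorem c2x7 : exOk MM.ap MM.L (Nat.shiftLeft 1 (Nat.mul MM.w MM.m)) c2S7 c2T6 c2b7 40 c2o7 = true := by decide +kernel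
theorem c2x1 : exOk MM.ap MM.L (Nat.shiftLeft 1 (Nat.mul MM.w MM.m)) c2S1 c2T0 c2b1 2 c2o1 = true := by decide +kernel
theorem c2x5 : exOk MM.ap MM.L (Nat.shiftLeft 1 (Nat.mul MM.w MM.m)) c2S5 c2T4 c2b5 2 c2o5 = true := by decide +kernel
theorem x19 : exOk MM.ap MM.L (Nat.shiftLeft 1 (Nat.mul MM.w MM.m)) [[76]] [] b19 19 o19 = true := by decide +kernel

end Cfsg.Agent.H15.Hn
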