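import Cfsg.Agent.H15.Hn.T
set_option autoImplicit false
set_option maxRecDepth 100000

namespace Cfsg.Agent.H15.Hn
open Cfsg.Agent.H15 Cfsg.Agent.H14

def ft0 : DT := (.node 8 (.node 4 (.node 2 (.node 1 (.leaf ⟨0, [], true, 1, []⟩) (.leaf ⟨1, [1, 1], true, 0, [0, 0]⟩)) (.node 3 (.leaf ⟨1, [2], false, 1, []⟩) (.leaf ⟨1, [0, 2, 1], false, 1, []⟩))) (.node 6 (.node 5 (.leaf ⟨1, [3, 0, 2, 1, 3], false, 1, []⟩) (.leaf ⟨1, [0, 2, 0, 2, 0, 3, 0, 3], false, 1, []⟩)) (.node 7 (.leaf ⟨1, [2, 0, 3, 3, 0, 2, 0, 2, 0], false, 1, []⟩) (.leaf ⟨1, [3, 0, 3, 0, 2, 2, 0, 3, 0], false, 1, []⟩)))) (.node 12 (.node 10 (.node 9 (.leaf ⟨1, [0, 2, 0, 3, 0, 3, 0, 2, 0, 2, 0, 3, 0, 3, 0, 2], false, 1, []⟩) (.leaf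 ⟨1, [0, 3, 3, 0, 3, 0, 3, 3, 0, 3, 0, 2, 0, 2, 2, 0, 3, 0, 2, 2], false, 1, []⟩)) (.node 11 (.leaf ⟨1, [1], true, 1, [0]⟩) (.leaf ⟨1, [0], true, 1, [0, 0]⟩))) (.node 14 (.node 13 (.leaf ⟨1, [], true, 1, [1]⟩) (.leaf ⟨1, [5], true, 1, [0, 0, 4]⟩)) (.node 15 (.leaf ⟨1, [5, 1], true, 2, []⟩) (.leaf ⟨2, [1, 1], true, 1, [1, 4]⟩)))))
def ft16 : DT := (.node 24 (.node 20 (.node 18 (.node 17 (.leaf ⟨2, [3, 3, 0, 2, 2, 0, 3, 0, 2, 2, 0, 2], false, 2, []⟩) (.leaf ⟨2, [3, 0, 2, 2, 2, 0, 3, 0, 3, 3, 0, 2, 1, 2, 2, 0, 2, 2], false, 2, []⟩)) (.node 19 (.leaf ⟨2, [0, 2, 0, 2, 0, 2, 2, 0, 2, 0, 3, 3, 1, 2, 2], false, 2, []⟩) (.leaf ⟨2, [3, 0, 3, 0, 2, 2, 2, 0, 2, 0, 2], false, 2, []⟩))) (.node 22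 (.node 21 (.leaf ⟨2, [0, 2, 2, 4, 2, 2, 4, 2, 2, 4, 2, 0, 2, 2, 1, 3, 0, 3, 4], false, 2, []⟩) (.leaf ⟨2, [3, 0, 3, 0, 2, 2, 0, 3, 0], false, 2, []⟩)) (.node 23 (.leaf ⟨2, [0, 2, 0, 3, 0, 3, 0, 2, 0, 2, 0, 3, 0, 3, 0, 2], false, 2, []⟩) (.leaf ⟨2, [5], true, 1, [1, 4]⟩)))) (.node 28 (.node 26 (.node 25 (.leaf ⟨2, [0, 0, 4], false, 2, []⟩) (.leaf ⟨2, [], true, 1, [1, 4]⟩)) (.node 27 (.leaf ⟨2, [0, 0], false, 2, []⟩) (.leaf ⟨1, [5, 0], true, 3, []⟩))) (.node 30 (.node 29 (.leaf ⟨3, [1, 1], true, 1, [0, 4]⟩) (.leaf ⟨3, [0, 2, 2, 0, 2, 2, 0, 3, 0, 3, 3, 0, 3, 0, 2, 2, 2, 0, 3, 0], false, 3, []⟩)) (.node 31 (.leaf ⟨3, [0, 2, 0, 2, 0, 3, 3, 0, 3, 0, 2, 2, 0, 3, 0, 3, 0, 2], false, 3, []⟩)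 (.leaf ⟨3, [0, 2, 0, 2, 2, 0, 2, 0, 3, 0, 3, 0, 2, 0, 2, 0], false, 3, []⟩)))))
def ft32 : DT := (.node 40 (.node 36 (.node 34 (.node 33 (.leaf ⟨3, [0, 2, 0, 3, 0, 3, 0, 2, 0, 2, 0, 3, 0, 3, 0, 2], false, 3, []⟩) (.leaf ⟨3, [5], true, 1, [4]⟩)) (.node 35 (.leaf ⟨1, [5, 1, 1], true, 3, [0, 0, 4]⟩) (.leaf ⟨3, [5, 0], true, 1, [0, 4]⟩))) (.node 38 (.node 37 (.leaf ⟨3, [0, 4], false, 3, []⟩) (.leaf ⟨3, [1], true, 2, [0]⟩)) (.node 39 (.leaf ⟨2, [1], true, 3, [0]⟩) (.leaf ⟨3, [5, 1], true, 3, [0, 0]⟩)))) (.node 44 (.node 42 (.node 41 (.leaf ⟨1, [5, 3, 5], true, 4, []⟩) (.leaf ⟨4, [1, 1], true, 1, [0, 0, 4, 3, 4]⟩)) (.node 43 (.leaf ⟨4, [0, 4, 2, 0, 4, 2, 4, 3, 0, 4, 3, 4, 2, 4], false, 4,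 []⟩) (.leaf ⟨4, [0, 3, 0, 2, 2, 0, 3, 3, 0, 3, 0, 3, 1, 3, 3], false, 4, []⟩))) (.node 46 (.node 45 (.leaf ⟨4, [0, 2, 2, 0, 3, 3, 0, 2, 2, 0, 2, 0, 2, 0, 2, 2, 0, 3, 0], false, 4, []⟩) (.leaf ⟨4, [5, 2, 5, 0, 2, 5, 1], true, 1, [3, 4, 3, 4, 3, 0, 2, 4, 2, 2, 4, 3, 1, 3, 3, 0, 2, 4, 2, 4]⟩)) (.node 47 (.leaf ⟨4, [0, 4, 2, 2, 2, 0, 3, 0, 3, 0, 4, 2, 0, 2, 0, 2, 2, 2, 0, 4], false, 4, []⟩) (.leaf ⟨4, [5, 2, 5, 3, 5, 0], true, 2, [0, 3, 3, 0, 2, 0, 4, 3, 3, 0, 3, 0, 2, 0, 2, 2, 0, 2, 0, 2, 2]⟩)))))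
def ft48 : DT := (.node 56 (.node 52 (.node 50 (.node 49 (.leaf ⟨2, [3, 1, 3, 5, 1], true, 4, [0, 2, 0, 2, 0, 4, 2, 4, 2, 4, 2, 1, 3, 3, 4, 2, 2, 4, 2, 0, 3]⟩) (.leaf ⟨2, [3, 0, 4, 2, 0, 2, 2, 4, 2, 0, 2, 4, 2, 1, 3, 3, 4, 3, 0, 2], false, 2, []⟩)) (.node 51 (.leaf ⟨3, [], false, 4, [3, 4, 2, 2, 4, 3, 3, 0, 2, 0, 2, 4, 2, 1, 2, 2, 0, 3, 0, 2]⟩) (.leaf ⟨4, [], false, 3, [3, 1, 2, 1, 3, 3, 0, 3, 5, 3, 1, 3, 1, 2, 2, 5, 3, 3, 5, 2]⟩))) (.node 54 (.node 53 (.leaf ⟨3, [5, 3, 5, 2, 5], true, 1, [0, 3, 4, 3, 0, 2, 0, 2, 0, 4, 3, 0, 3, 3, 0, 2, 2, 2, 0, 3, 0, 3]⟩) (.leaf ⟨3, [3, 5, 2, 5, 1, 1], true, 3, [2, 2, 2, 0, 3, 0, 3, 4, 3, 0, 3, 3, 1]⟩)) (.node 55 (.leaf ⟨3, [5, 2, 1, 2, 1, 2, 2, 5],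 true, 3, [0, 3, 0, 4, 2, 4, 2, 0, 3, 4, 3, 4, 3, 0, 3]⟩) (.leaf ⟨1, [5, 3, 5, 1], true, 5, []⟩)))) (.node 60 (.node 58 (.node 57 (.leaf ⟨5, [1, 1], true, 1, [4, 3, 1, 4]⟩) (.leaf ⟨5, [0, 3, 3, 4, 2, 4, 2, 2, 4, 2, 2, 1, 3, 3, 4, 3, 3, 4, 3, 4, 2], false, 5, []⟩)) (.node 59 (.leaf ⟨5, [0, 2, 2, 0, 3, 3, 0, 3, 0, 3, 0, 2, 0, 2, 2, 0, 2, 2, 0, 2, 2], false, 5, []⟩) (.leaf ⟨5, [0, 3, 0, 2, 2, 0, 3, 0, 3, 3, 0, 3, 0, 3, 0, 3, 0], false, 5, []⟩))) (.node 62 (.node 61 (.leaf ⟨5, [3, 0, 3, 3, 0, 3, 0, 2, 0, 2, 0, 3, 1, 3], false, 5, []⟩) (.leaf ⟨5, [3, 0, 2, 0, 2, 0, 3, 0, 3, 0, 2, 0, 2, 2, 0, 2, 0, 2], false, 5, []⟩)) (.node 63 (.leaf ⟨5, [0, 2, 0, 3, 0, 3, 0, 2, 0, 2, 0, 3, 0, 3, 0, 2], false,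 5, []⟩) (.leaf ⟨5, [5, 2, 5, 3, 5, 0], true, 1, [0, 3, 3, 0, 2, 0, 4, 2, 2, 2, 0, 2, 2, 1, 3, 3, 0, 3, 3, 4, 3]⟩)))))
def ft64 : DT := (.node 72 (.node 68 (.node 66 (.node 65 (.leaf ⟨5, [3, 0, 4, 2, 2, 2, 0, 3, 0, 3, 0, 4, 2, 0, 2, 0, 2, 2, 2, 0, 4, 2], false, 5, []⟩) (.leaf ⟨5, [5], true, 2, [0, 2, 0, 3, 4]⟩)) (.node 67 (.leaf ⟨2, [2, 5], true, 5, [2, 0, 3, 0, 2, 4]⟩) (.leaf ⟨5, [0, 4, 3, 4, 3, 3, 4, 3, 3, 0, 4, 3, 0, 3, 1, 2, 2], false, 5, []⟩))) (.node 70 (.node 69 (.leaf ⟨5, [1, 2, 5, 2, 5, 3, 5], true, 3, [0, 3, 0, 2, 2, 0, 3, 4, 2, 2, 0, 2, 0, 3, 0, 3, 0, 2, 2, 2, 0, 3]⟩) (.leaf ⟨3, [2, 5], true, 5, [4, 3, 4, 3, 0, 4, 3, 3, 1, 3, 3, 4, 2, 2, 2, 0, 2, 4, 2, 2]⟩)) (.node 71 (.leaf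 ⟨5, [1, 2, 5, 1], true, 3, [0, 3, 4, 3, 0, 4, 3, 4, 3, 4, 3, 3, 0, 2, 0, 3, 3, 4, 3, 3, 4]⟩) (.leaf ⟨3, [5, 3, 0, 3, 5, 1], true, 5, [2, 2, 2, 0, 3, 0, 2, 2, 0, 3, 0, 3, 3, 0, 3, 0, 3, 4]⟩)))) (.node 76 (.node 74 (.node 73 (.leaf ⟨5, [], true, 3, [2, 0, 3, 0, 2, 2, 0, 2, 2, 0, 4, 2, 4, 3, 3, 0, 3, 0, 4, 3, 3]⟩) (.leaf ⟨3, [5, 3, 5, 2, 5, 1], true, 5, [3, 4, 2, 2, 2, 4, 3, 4, 3, 3, 0, 2, 4, 2, 4, 2, 0, 2, 4, 2]⟩)) (.node 75 (.leaf ⟨5, [1], true, 5, [0, 4, 3, 3, 4, 3, 4, 3, 1, 3, 4, 3, 4, 3, 3, 4, 2, 2, 0]⟩) (.leaf ⟨5, [5, 0], true, 5, [0, 4]⟩))) (.node 78 (.node 77 (.leaf ⟨5, [5, 3, 5, 1, 1], true, 5, [3, 0, 4, 2, 2, 2, 0, 2, 2, 0, 2, 0, 2, 2, 2, 4, 2, 0, 2]⟩) (.leaf ⟨1, [5, 3, 5, 3,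 5], true, 6, []⟩)) (.node 79 (.leaf ⟨6, [1, 1], true, 1, [0, 0, 4, 3, 4, 3, 4]⟩) (.leaf ⟨6, [3, 3, 0, 3, 4, 3, 3, 4, 3, 3, 0, 4, 3, 0, 3, 0, 2, 2, 4], false, 6, []⟩)))))
def ft80 : DT := (.node 88 (.node 84 (.node 82 (.node 81 (.leaf ⟨6, [2, 0, 2, 0, 3, 3, 0, 3, 0, 2, 0, 2, 2, 1, 2, 2, 2], false, 6, []⟩) (.leaf ⟨6, [2, 0, 2, 0, 3, 0, 3, 0, 3, 0, 2, 0, 3, 3, 0, 2, 2, 2, 0, 2], false, 6, []⟩)) (.node 83 (.leaf ⟨6, [0, 2, 0, 2, 2, 2, 0, 2, 2, 0, 2, 0, 2, 0, 2, 2, 0, 2, 2, 0], false, 6, []⟩) (.leaf ⟨6, [0, 3, 0, 2, 2, 0, 2, 0, 3, 0, 3, 3, 0, 2, 0, 2, 2, 0, 2, 2], false, 6, []⟩))) (.node 86 (.node 85 (.leaf ⟨6, [5, 2, 5, 0, 3, 3, 5, 1], true, 3, [3, 0, 2, 2, 2, 4, 2, 0, 3, 3, 4, 3, 3, 1,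 3, 0, 2, 4, 3, 3, 4]⟩) (.leaf ⟨3, [0, 2, 5, 3, 3, 5], true, 6, [4, 3, 4, 3, 3, 4, 3, 0, 2, 1, 2, 4, 2, 4, 2, 2, 0, 2, 4, 2, 0, 4]⟩)) (.node 87 (.leaf ⟨6, [5, 2, 5], true, 3, [0, 2, 4, 2, 2, 4, 2, 2, 4, 2, 4, 3, 0, 3, 1, 2, 4, 2, 0, 2, 0]⟩) (.leaf ⟨6, [4, 3, 4, 2, 2, 0, 2, 4, 2, 4, 2, 2, 0, 4, 3, 0, 3, 0, 4, 2, 4], false, 6, []⟩)))) (.node 92 (.node 90 (.node 89 (.leaf ⟨6, [0, 3, 1, 3, 3, 5], true, 5, [0, 3, 0, 3, 0, 3, 3, 1, 3, 4]⟩) (.leaf ⟨5, [1, 3, 5, 1], true, 6, [0, 3, 0, 3, 0, 2, 2, 1, 2, 4]⟩)) (.node 91 (.leaf ⟨6, [1, 2, 2, 5, 1, 2, 5], true, 5, [2, 2, 0, 3, 0, 4, 2, 4, 3, 3, 4, 2, 2, 2, 0, 2, 4, 2]⟩) (.leaf ⟨5, [0, 2, 5, 1, 2, 5], true, 6, [4, 2, 4, 2, 2, 4, 2, 0, 4, 2, 4, 2,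 2, 1, 2, 2, 0, 4, 2, 0]⟩))) (.node 94 (.node 93 (.leaf ⟨6, [1], true, 6, [0, 2, 0, 2, 0, 2, 2, 0, 2, 0, 3, 0, 3, 3, 0, 2, 0, 3, 0]⟩) (.leaf ⟨6, [0], true, 6, [0, 2, 0, 2, 0, 2, 0, 3, 0, 3, 3, 0, 2, 2, 0, 2, 0, 2, 2, 0, 3, 0, 2]⟩)) (.node 95 (.leaf ⟨6, [], true, 6, [0, 3, 3, 0, 2, 2, 0, 2, 0, 3, 3, 0, 3, 3, 1, 3, 0, 2, 0, 3, 3, 0, 2, 2]⟩) (.leaf ⟨6, [5, 2, 5, 0, 3, 3, 5], true, 6, [2, 0, 2, 0, 4, 3, 4, 3, 3, 4, 3, 0, 4, 3, 3, 4, 3, 4, 3, 4]⟩)))))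
def ft96 : DT := (.node 104 (.node 100 (.node 98 (.node 97 (.leaf ⟨6, [5, 2, 1, 3, 1, 3, 3, 5], true, 6, [3, 0, 4, 2, 1, 3, 3, 4, 3, 3, 4, 2, 2, 4, 2, 0, 2, 4, 2, 2, 4]⟩) (.leaf ⟨6, [2, 5, 3, 3, 5, 0], true, 6, [2, 2, 4, 3, 3, 4, 3, 3, 4, 3, 0, 4, 3, 3, 0, 2, 4, 2, 2, 4]⟩)) (.node 99 (.leaf ⟨2, [3, 5, 1], true, 7, []⟩) (.leaf ⟨7, [1, 1], true, 2, [3, 1, 4]⟩))) (.node 102 (.node 101 (.leaf ⟨7, [3, 0, 2, 2, 2, 1, 2], false, 7, []⟩) (.leaf ⟨7, [2, 2, 0, 2, 0, 2, 2, 0, 2, 2, 0, 2, 0, 2, 1, 2, 2], false, 7, []⟩)) (.node 103 (.leaf ⟨7, [0, 3, 3, 4, 2, 2, 2, 4, 2, 2, 0, 2, 2, 4, 2, 2, 2, 4, 3, 3], false, 7, []⟩) (.leaf ⟨7, [2, 0, 3, 3, 0, 3, 3, 0, 3, 0, 2, 0, 2, 1, 3, 3], false, 7, []⟩))))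 (.node 108 (.node 106 (.node 105 (.leaf ⟨7, [3, 0, 3, 0, 2, 0, 2, 2, 0, 2, 2, 2, 0, 3, 3, 0, 3, 0, 2, 0, 2], false, 7, []⟩) (.leaf ⟨7, [0, 2, 0, 3, 0, 3, 0, 2, 0, 2, 0, 3, 0, 3, 0, 2], false, 7, []⟩)) (.node 107 (.leaf ⟨7, [2, 0, 2, 0, 2, 2, 0, 3, 3, 0, 2, 2, 0, 2, 0, 2, 0, 3, 0], false, 7, []⟩) (.leaf ⟨7, [5], true, 3, [2, 2, 0, 4, 2, 0, 2, 2, 0, 3, 3, 4, 2, 2, 2, 0, 4, 2, 0, 2, 0]⟩))) (.node 110 (.node 109 (.leaf ⟨3, [0, 2, 5], true, 7, [0, 2, 4, 3, 4, 3, 3, 4, 2, 4, 2, 2, 4, 2, 4, 2, 0, 3, 3, 4, 3, 3, 0]⟩) (.leaf ⟨7, [5, 0], true, 3, [0, 3, 3, 0, 2, 0, 4, 2, 0, 2, 2, 4, 2, 2, 4, 3, 0, 3, 0, 4]⟩)) (.node 111 (.leaf ⟨3, [5, 2, 0, 2, 1, 2, 2, 5, 1], true, 7, [2, 0, 3, 3, 0, 3, 0, 3,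 4, 3, 3, 0, 2, 2, 0, 3]⟩) (.leaf ⟨7, [2, 2, 5, 3, 3, 5, 1, 1], true, 3, [2, 0, 2, 0, 4, 2, 0, 3, 4, 3, 4, 3, 1, 3, 3, 0, 2, 2, 0, 4, 2, 4]⟩)))))
def ft112 : DT := (.node 120 (.node 116 (.node 114 (.node 113 (.leaf ⟨3, [0, 3, 5, 2, 2, 5, 1, 2, 5], true, 7, [0, 2, 0, 2, 4, 2, 4, 2, 2, 0, 3, 3, 1, 4, 3, 3, 0, 3, 0, 4]⟩) (.leaf ⟨7, [0], true, 5, [0, 2, 0, 3, 3, 0, 3, 0, 2, 4, 2, 2, 4, 2, 2, 4, 2, 2]⟩)) (.node 115 (.leaf ⟨5, [5, 1, 1], true, 7, [2, 2, 0, 2, 0, 3, 4, 3, 3, 4, 3, 3, 4, 3, 3, 4, 3, 0]⟩) (.leaf ⟨7, [], true, 5, [0, 4, 2, 4, 2, 2, 4, 2, 2, 4, 2, 2, 4, 2, 0, 3, 0, 3, 3]⟩))) (.node 118 (.node 117 (.leaf ⟨5, [5, 1], true, 7, [2, 2, 0, 2, 0, 3, 4, 3, 3, 4, 3, 3, 4, 3, 3, 4, 3]⟩)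 (.leaf ⟨7, [5, 3, 5, 0, 3, 5, 1], true, 5, [2, 2, 0, 3, 4, 3, 3, 4, 3, 3, 4, 2, 2, 1, 2, 4, 2, 0, 3, 3]⟩)) (.node 119 (.leaf ⟨5, [5, 0, 3, 5, 1], true, 7, [2, 0, 3, 3, 0, 3, 0, 3, 3, 0, 3, 0, 2, 2, 0, 2, 2, 2, 4]⟩) (.leaf ⟨7, [5, 2, 5, 3, 5, 0], true, 5, [3, 3, 0, 3, 3, 0, 3, 3, 0, 3, 4, 3, 1, 3, 3, 4, 3, 0]⟩)))) (.node 124 (.node 122 (.node 121 (.leaf ⟨7, [0, 4, 2, 4, 3, 1, 4], false, 7, []⟩) (.leaf ⟨7, [5, 1, 1], true, 5, [4, 2, 4, 2, 2, 4, 2, 2, 0, 3, 1, 2, 2, 2, 4, 2, 0, 2, 2, 0, 3, 4, 3]⟩)) (.node 123 (.leaf ⟨5, [0, 2, 5, 2, 5, 3, 5, 1], true, 7, [0, 2, 0, 2, 2, 0, 3, 4, 3, 3, 4, 3, 3, 1, 4, 3, 0, 3, 0, 2, 2, 2]⟩) (.leaf ⟨7, [5, 3, 5, 3, 5, 1, 3, 5, 1], true, 5, [0, 3, 0, 3, 0,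 3, 0, 3, 3, 0, 3, 3, 4, 2, 2, 2, 0, 2, 2, 2, 4, 2]⟩))) (.node 126 (.node 125 (.leaf ⟨5, [3, 3, 0, 2, 2, 5, 2, 5, 1], true, 7, [0, 4, 2, 4, 2, 0, 3, 3, 0, 4, 2, 2, 2, 4, 3]⟩) (.leaf ⟨7, [2, 2, 5, 3, 3, 5, 0], true, 6, [0, 2, 4, 2, 2, 4, 3, 0, 2, 4, 2, 4, 2, 2, 0, 3, 4, 3]⟩)) (.node 127 (.leaf ⟨6, [5, 2, 5, 1, 3, 3, 5, 1], true, 7, [3, 3, 0, 2, 2, 0, 2, 0, 2, 2, 2, 1, 2, 4, 2, 0, 2, 0, 3, 0, 4]⟩) (.leaf ⟨7, [2, 2, 5, 3, 3, 5], true, 6, [0, 3, 0, 2, 2, 0, 4, 3, 4, 2, 4, 2, 2, 1, 2, 2, 0, 2, 0, 2]⟩)))))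
def ft128 : DT := (.node 136 (.node 132 (.node 130 (.node 129 (.leaf ⟨6, [5, 2, 5, 1, 3, 3, 5], true, 7, [0, 3, 3, 0, 3, 4, 3, 0, 3, 0, 4, 3, 3, 0, 3, 3, 0, 3, 4, 3, 0, 4]⟩) (.leaf ⟨7, [0, 2, 2, 5, 3, 1, 3, 5, 3, 5], true, 6, [0, 3, 3, 4, 3, 3, 4, 3, 0, 3, 4, 3, 4, 3, 1, 2, 2, 4, 2, 0, 4]⟩)) (.node 131 (.leaf ⟨6, [5, 3, 5], true, 7, [0, 2, 2, 0, 2, 4, 2, 0, 3, 3, 4, 2, 4, 2, 2, 0, 2, 2, 2, 4, 2, 4]⟩) (.leaf ⟨7, [3, 5, 3, 5, 2, 2, 5, 1], true, 6, [3, 3, 0, 2, 0, 4, 2, 0, 3, 3, 4, 3, 1, 2, 2, 4, 3, 3, 4, 2]⟩))) (.node 134 (.node 133 (.leaf ⟨6, [3, 5, 2, 2, 5, 0], true, 7, [2, 2, 0, 3, 0, 3, 4, 3, 4, 3, 4, 3, 0, 3, 1, 2, 2, 2, 0, 2, 0]⟩) (.leaf ⟨7, [5, 3, 5, 3, 5, 0, 3, 5], true, 6, [0,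 2, 2, 0, 3, 3, 0, 3, 3, 0, 4, 3, 1, 3, 3, 4, 2, 2, 2, 0, 3, 3]⟩)) (.node 135 (.leaf ⟨6, [3, 5, 2, 5, 2, 5, 2, 5], true, 7, [4, 2, 2, 0, 3, 3, 0, 3, 4, 3, 3, 4, 2, 2, 4, 0, 2, 0, 3]⟩) (.leaf ⟨7, [1], true, 7, [0]⟩)))) (.node 140 (.node 138 (.node 137 (.leaf ⟨7, [0, 3, 1, 3, 1, 3, 3, 5, 1], true, 7, [3, 4, 3, 4, 3, 3, 4, 3, 3, 4, 2, 0, 4, 2, 0, 3, 4, 3, 0, 3, 4, 3, 3]⟩) (.leaf ⟨7, [3, 1, 3, 3, 3, 5, 1], true, 7, [0, 2, 0, 2, 0, 3, 4, 2, 2, 1, 2, 2, 4, 3, 3, 4, 3, 0, 3, 0, 2, 2]⟩)) (.node 139 (.leaf ⟨7, [5, 1], true, 7, [0, 3, 0, 2, 2, 2, 0, 2, 2, 4, 3, 3, 0, 4, 2, 4, 2, 2, 2, 4, 3, 3, 4, 2]⟩) (.leaf ⟨7, [5, 3, 1, 2, 1, 3, 3, 3, 5, 1], true, 7, [2, 2, 0, 3, 0, 3, 0, 3, 3, 4, 3, 3, 1, 3,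 3, 4, 2, 2]⟩))) (.node 142 (.node 141 (.leaf ⟨7, [5, 2, 5, 1, 1], true, 7, [2, 0, 3, 0, 3, 0, 3, 3, 0, 3, 4, 3, 0, 2, 2, 0, 2, 4, 2, 0]⟩) (.leaf ⟨7, [2, 5, 3, 3, 3, 5, 3, 5, 0], true, 7, [3, 3, 0, 2, 0, 4, 3, 4, 3, 0, 3, 3, 4, 3, 3, 0, 3, 4, 3, 3]⟩)) (.node 143 (.leaf ⟨7, [2, 5, 1, 3, 1, 3, 5, 3, 5, 1], true, 7, [2, 0, 2, 4, 2, 2, 4, 2, 1, 4, 2, 4, 2, 4, 2, 2]⟩) (.leaf ⟨7, [0, 2, 5, 2, 5, 2, 5], true, 7, [2, 4, 2, 2, 4, 2, 2, 0, 3, 4, 3, 4, 3, 1, 2, 0, 2, 2, 2, 4, 3]⟩)))))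
def ft144 : DT := (.node 152 (.node 148 (.node 146 (.node 145 (.leaf ⟨7, [5, 3, 5, 0, 3, 3, 5, 2, 5], true, 7, [0, 3, 0, 2, 0, 4, 2, 2, 2, 0, 2, 0, 3, 4, 3, 0, 2, 0, 2, 2, 4, 3, 3]⟩) (.leaf ⟨7, [5, 3, 3, 5, 3, 3, 5, 3, 5], true, 7, [0, 4, 2, 0, 3, 4, 3, 0, 3, 4, 3, 4, 2, 0, 2, 4, 2, 2, 2, 4]⟩)) (.node 147 (.leaf ⟨7, [2, 5, 2, 0, 2, 2, 5, 1], true, 7, [1, 4, 3, 4, 2, 4, 2, 4, 2, 2, 4, 2, 4, 2, 2, 0, 2, 2, 2]⟩) (.leaf ⟨7, [2, 5, 1], true, 8, []⟩))) (.node 150 (.node 149 (.leaf ⟨8, [1, 1], true, 7, [2, 1, 4]⟩) (.leaf ⟨8, [0, 3, 3, 0, 2, 2, 0, 3, 0, 3, 3, 0, 2, 2, 1, 3], false, 8, []⟩)) (.node 151 (.leaf ⟨8, [0, 2, 0, 3, 3, 0, 2, 0, 2], false, 8, []⟩) (.leaf ⟨8, [0, 2, 0, 3, 0, 3, 0, 2,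 0, 2, 0, 3, 0, 3, 0, 2], false, 8, []⟩)))) (.node 156 (.node 154 (.node 153 (.leaf ⟨8, [2, 4, 2, 2, 0, 3, 4, 3, 3, 0, 3, 0, 4, 2, 4, 2, 2, 4, 2, 0, 3, 3, 4, 3], false, 8, []⟩) (.leaf ⟨8, [], true, 7, [3, 0, 3, 0, 3, 3, 0, 2, 2, 0, 2, 0, 2, 1, 3, 0, 2, 2, 0, 3, 0, 4]⟩)) (.node 155 (.leaf ⟨8, [0, 3, 0, 3, 0, 2, 2, 1, 3], false, 8, []⟩) (.leaf ⟨8, [5, 0, 3, 5, 1, 3, 5], true, 7, [0, 2, 0, 2, 2, 2, 0, 3, 3, 0, 2, 2, 1, 2, 4, 2, 2, 0, 4, 3, 0, 3]⟩))) (.node 158 (.node 157 (.leaf ⟨8, [2, 4, 3, 4, 3, 3, 0, 2, 1, 2, 2, 4, 2, 4, 2, 0, 2, 2, 4, 3, 0, 3, 3], false, 8, []⟩) (.leaf ⟨8, [2, 0, 3, 1, 3, 3, 3, 5], true, 8, [0, 3, 4, 3, 4, 2, 2, 0, 2, 1, 4, 2, 4, 2, 4, 3]⟩)) (.node 159 (.leaf ⟨5, [5,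 1, 3, 5], true, 9, []⟩) (.leaf ⟨9, [1, 1], true, 5, [1, 4, 3, 4]⟩)))))
def ft160 : DT := (.node 168 (.node 164 (.node 162 (.node 161 (.leaf ⟨9, [0, 2, 0, 4, 3, 4, 2, 4, 2, 4, 3, 3, 1, 4, 2, 4, 3], false, 9, []⟩) (.leaf ⟨9, [0, 2, 0, 2, 0, 3, 0, 3, 0, 2, 0, 2, 0, 3, 0, 3], false, 9, []⟩)) (.node 163 (.leaf ⟨9, [5], true, 5, [1, 4, 3, 4]⟩) (.leaf ⟨9, [0, 0, 4], false, 9, []⟩))) (.node 166 (.node 165 (.leaf ⟨9, [0, 3, 1, 2, 1, 2, 2, 5, 1], true, 5, [0, 2, 0, 2, 2, 2, 4, 2, 0, 3, 3, 0, 2, 2, 1, 2, 0, 2, 2, 2, 4, 2, 4]⟩) (.leaf ⟨9, [0, 2, 2, 4, 2, 2, 0, 2, 2, 0, 2, 4, 2, 2, 0, 4, 2, 0, 2, 0], false, 9, []⟩)) (.node 167 (.leaf ⟨9, [2, 5], true, 6, [0, 2, 4, 3, 4, 3, 0, 3, 3, 4, 2, 2, 4, 2,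 2, 4, 3, 4, 3]⟩) (.leaf ⟨6, [5, 3, 0, 2, 5, 2, 5, 2, 5], true, 9, [0, 4, 2, 2, 0, 3, 0, 2, 2, 2, 4, 2, 0, 2, 2, 0, 3, 0, 3, 4]⟩)))) (.node 172 (.node 170 (.node 169 (.leaf ⟨9, [5, 2, 5, 0, 2, 5, 1], true, 7, [0, 3, 4, 2, 2, 2, 0, 3, 0, 3, 0, 2, 0, 2, 0, 3]⟩) (.leaf ⟨7, [0, 3, 5, 1], true, 9, [4, 2, 2, 2, 0, 4, 3, 4, 3, 0, 2, 4, 2, 1, 4, 2, 2, 2, 0]⟩)) (.node 171 (.leaf ⟨9, [], true, 7, [2, 0, 3, 3, 0, 3, 0, 3, 3, 0, 3, 0, 2, 2, 0, 2, 2, 2, 0, 4]⟩) (.leaf ⟨7, [5, 3, 5, 1, 3, 5], true, 9, [0, 3, 4, 2, 2, 2, 4, 2, 0, 3, 3, 4, 2, 2, 2, 4, 2, 4, 2, 2, 4, 3, 3]⟩))) (.node 174 (.node 173 (.leaf ⟨9, [5, 2, 1, 3, 5, 3, 5, 1], true, 7, [0, 3, 3, 0, 4, 2, 0, 2, 0, 3, 4, 3, 3, 0, 2, 1, 2, 2, 0,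 3, 3, 0, 2]⟩) (.leaf ⟨7, [5, 3, 3, 5], true, 9, [0, 3, 3, 0, 4, 3, 3, 4, 3, 4, 3, 0, 3, 4, 3, 4, 3, 0, 3]⟩)) (.node 175 (.leaf ⟨9, [1], true, 9, [3, 0, 3, 0, 3, 0, 2, 0, 3, 3, 0, 3, 0, 3, 3, 0, 2, 2, 0, 2, 0]⟩) (.leaf ⟨9, [5, 3, 5, 0, 3, 5, 1], true, 9, [2, 2, 2, 4, 2, 2, 2, 0, 2, 0, 2, 2, 1, 3, 3, 0, 3, 3]⟩)))))
def ft176 : DT := (.leaf ⟨1, [5, 3, 5], true, 3, [3, 0, 2, 0, 3, 3, 0, 3, 4, 3, 0, 3, 0, 2, 2, 4, 3, 3, 4, 2]⟩)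
def ft : DT := (.node 96 (.node 48 (.node 16 ft0 (.node 32 ft16 ft32)) (.node 64 ft48 (.node 80 ft64 ft80))) (.node 144 (.node 112 ft96 (.node 128 ft112 ft128)) (.node 160 ft144 (.node 176 ft160 ft176))))
def ks : List (List ℕ) := [[2], [3], [1, 2, 0], [1, 3, 0]]
def kt : List (List ℕ) := [[2], [3], [1, 2, 0], [1, 3, 0]]
def rs : List (List (List ℕ)) := [[[1, 1], [0, 0]], [[0, 0], [1, 1]], [[0], [], [1]], [[], [1], [0]], [[1], [0], []], [[4], [4], [4]]]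
def Ws : List (List (List ℕ)) := [[], [[]], [[5, 1], []], [[5, 0], []], [[5, 3, 5], []], [[5, 3, 5, 1], []], [[5, 3, 5, 3, 5], []], [[3, 5, 1], [5, 1], []], [[2, 5, 1], [3, 5, 1], [5, 1], []], [[5, 1, 3, 5], [5, 3, 5, 1], []]]
def bs : List ℕ := [0, 3, 7, 8, 16]
noncomputable def dP : DP := ⟨ap, 6, bs, invT 4379389953 6, ks, kt, nthR rs, ft.get, nthR Ws⟩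
def d0 : DL := ⟨0, [[0], [2], [4]], [[0], [2], [4]], [0], idW 6, idW 6, 177408000, 1⟩

end Cfsg.Agent.H15.Hn
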