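import Cfsg.Agent.H15.Hn.D0
set_option autoImplicit false
set_option maxRecDepth 100000

namespace Cfsg.Agent.H15.Hn
open Cfsg.Agent.H15 Cfsg.Agent.H14

def lo1_S4 : List (List ℕ) := [[0, 2, 0, 3, 0, 3, 0, 2, 0, 2, 0, 3, 0, 3, 0, 2]]
def lo1_T4 : List (List ℕ) := lo1_S4 ++ []
theorem lo1_k4 : stepOk ap 6 1408 id lo1_S4 [] 16 2 = true := by decide +kernel
def lo1_S3 : List (List ℕ) := [[3, 0, 3, 0, 2, 2, 0, 3, 0], [0, 3, 3, 0, 3, 0, 3, 3, 0, 3, 0, 2, 0, 2, 2, 0, 3, 0, 2, 2]]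
def lo1_T3 : List (List ℕ) := lo1_S3 ++ lo1_T4
theorem lo1_k3 : stepOk ap 6 1408 id lo1_S3 lo1_T4 8 30 = true := by decide +kernel
def lo1_S2 : List (List ℕ) := [[3, 0, 2, 1, 3], [0, 2, 0, 2, 0, 3, 0, 3]]
def lo1_T2 : List (List ℕ) := lo1_S2 ++ lo1_T3
theorem lo1_k2 : stepOk ap 6 1408 id lo1_S2 lo1_T3 7 42 = true := by decide +kernel
def lo1_S1 : List (List ℕ) := [[2], [0, 2, 1]]
def lo1_T1 : List (List ℕ) := lo1_S1 ++ lo1_T2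
theorem lo1_k1 : stepOk ap 6 1408 id lo1_S1 lo1_T2 3 50 = true := by decide +kernel
def d1 : DL := ⟨1, [[2], [0, 2, 1]], [[4], [6]], [1, 10, 11, 12, 13, 14, 27, 34, 176, 55, 77], lo1_T1, [[4], [6], [8], [10], [14], [18], [16]], 126000, 1408⟩
def lo2_S4 : List (List ℕ) := [[0, 2, 0, 3, 0, 3, 0, 2, 0, 2, 0, 3, 0, 3, 0, 2]]
def lo2_T4 : List (List ℕ) := lo2_S4 ++ []
theorem lo2_k4 : stepOk ap 6 1408 id lo2_S4 [] 16 2 = true := by decide +kernel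
def lo2_S3 : List (List ℕ) := [[3, 0, 3, 0, 2, 2, 0, 3, 0], [0, 2, 0, 2, 0, 2, 2, 0, 2, 0, 3, 3, 1, 2, 2]]
def lo2_T3 : List (List ℕ) := lo2_S3 ++ lo2_T4
theorem lo2_k3 : stepOk ap 6 1408 id lo2_S3 lo2_T4 8 30 = true := by decide +kernel
def lo2_S2 : List (List ℕ) := [[3, 0, 3, 0, 2, 2, 0, 3, 0], [3, 3, 0, 2, 2, 0, 3, 0, 2, 2, 0, 2], [0, 2, 0, 2, 0, 2, 2, 0, 2, 0, 3, 3, 1, 2, 2]]
def lo2_T2 : List (List ℕ) := lo2_S2 ++ lo2_T3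
theorem lo2_k2 : stepOk ap 6 1408 id lo2_S2 lo2_T3 7 42 = true := by decide +kernel
def lo2_S0 : List (List ℕ) := [[0, 0], [0, 0, 4], [3, 0, 3, 0, 2, 2, 0, 3, 0], [3, 0, 4, 2, 0, 2, 2, 4, 2, 0, 2, 4, 2, 1, 3, 3, 4, 3, 0, 2]]
def lo2_T0 : List (List ℕ) := lo2_S0 ++ lo2_T2
theorem lo2_k0 : stepOk ap 6 1408 id lo2_S0 lo2_T2 0 32 = true := by decide +kernel
def d2 : DL := ⟨2, [[3, 0, 3, 0, 2, 2, 2, 0, 2, 0, 2], [3, 0, 3, 0, 2, 2, 0, 3, 0], [0, 0, 4], [0, 0], [3, 0, 4, 2, 0, 2, 2, 4, 2, 0, 2, 4, 2, 1, 3, 3, 4, 3, 0, 2]], [[38], [42], [48], [52], [98]], [15, 38, 66, 98], lo2_T0, [[52], [48], [42], [98], [42], [32], [36], [42], [36], [44]], 80640, 2200⟩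
def lo3_S4 : List (List ℕ) := [[0, 2, 0, 3, 0, 3, 0, 2, 0, 2, 0, 3, 0, 3, 0, 2]]
def lo3_T4 : List (List ℕ) := lo3_S4 ++ []
theorem lo3_k4 : stepOk ap 6 1408 id lo3_S4 [] 16 2 = true := by decide +kernel
def lo3_S3 : List (List ℕ) := [[0, 2, 0, 2, 2, 0, 2, 0, 3, 0, 3, 0, 2, 0, 2, 0], [0, 2, 0, 3, 0, 3, 0, 2, 0, 2, 0, 3, 0, 3, 0, 2]]
def lo3_T3 : List (List ℕ) := lo3_S3 ++ lo3_T4
theorem lo3_k3 : stepOk ap 6 1408 id lo3_S3 lo3_T4 8 30 = true := by decide +kernel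
def lo3_S2 : List (List ℕ) := [[0, 2, 0, 3, 0, 3, 0, 2, 0, 2, 0, 3, 0, 3, 0, 2], [0, 2, 0, 2, 0, 3, 3, 0, 3, 0, 2, 2, 0, 3, 0, 3, 0, 2]]
def lo3_T2 : List (List ℕ) := lo3_S2 ++ lo3_T3
theorem lo3_k2 : stepOk ap 6 1408 id lo3_S2 lo3_T3 7 42 = true := by decide +kernel
def lo3_S0 : List (List ℕ) := [[0, 4]]
def lo3_T0 : List (List ℕ) := lo3_S0 ++ lo3_T2
theorem lo3_k0 : stepOk ap 6 1408 id lo3_S0 lo3_T2 0 2 = true := by decide +kernel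
def d3 : DL := ⟨3, [[0, 2, 0, 2, 0, 3, 3, 0, 3, 0, 2, 2, 0, 3, 0, 3, 0, 2], [0, 4]], [[60], [72]], [28, 33, 37, 39, 52, 53, 54, 69, 71, 73, 85, 108, 110, 112], lo3_T0, [[72], [64], [60], [62], [64], [64]], 5040, 35200⟩
def lo5_S4 : List (List ℕ) := [[0, 2, 0, 3, 0, 3, 0, 2, 0, 2, 0, 3, 0, 3, 0, 2]]
def lo5_T4 : List (List ℕ) := lo5_S4 ++ []
theorem lo5_k4 : stepOk ap 6 1408 id lo5_S4 [] 16 2 = true := by decide +kernel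
def lo5_S3 : List (List ℕ) := [[3, 0, 2, 0, 2, 0, 3, 0, 3, 0, 2, 0, 2, 2, 0, 2, 0, 2]]
def lo5_T3 : List (List ℕ) := lo5_S3 ++ lo5_T4
theorem lo5_k3 : stepOk ap 6 1408 id lo5_S3 lo5_T4 8 5 = true := by decide +kernel
def lo5_S2 : List (List ℕ) := [[3, 0, 3, 3, 0, 3, 0, 2, 0, 2, 0, 3, 1, 3], [0, 2, 0, 3, 0, 3, 0, 2, 0, 2, 0, 3, 0, 3, 0, 2]]
def lo5_T2 : List (List ℕ) := lo5_S2 ++ lo5_T3
theorem lo5_k2 : stepOk ap 6 1408 id lo5_S2 lo5_T3 7 6 = true := by decide +kernel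
def lo5_S1 : List (List ℕ) := [[3, 0, 3, 3, 0, 3, 0, 2, 0, 2, 0, 3, 1, 3], [0, 2, 2, 0, 3, 3, 0, 3, 0, 3, 0, 2, 0, 2, 2, 0, 2, 2, 0, 2, 2]]
def lo5_T1 : List (List ℕ) := lo5_S1 ++ lo5_T2
theorem lo5_k1 : stepOk ap 6 1408 id lo5_S1 lo5_T2 3 6 = true := by decide +kernel
def lo5_S0 : List (List ℕ) := [[0, 4, 3, 4, 3, 3, 4, 3, 3, 0, 4, 3, 0, 3, 1, 2, 2], [3, 0, 4, 2, 2, 2, 0, 3, 0, 3, 0, 4, 2, 0, 2, 0, 2, 2, 2, 0, 4, 2]]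
def lo5_T0 : List (List ℕ) := lo5_S0 ++ lo5_T1
theorem lo5_k0 : stepOk ap 6 1408 id lo5_S0 lo5_T1 0 4 = true := by decide +kernel
def d5 : DL := ⟨5, [[0, 2, 2, 0, 3, 3, 0, 3, 0, 3, 0, 2, 0, 2, 2, 0, 2, 2, 0, 2, 2], [3, 0, 4, 2, 2, 2, 0, 3, 0, 3, 0, 4, 2, 0, 2, 0, 2, 2, 2, 0, 4, 2], [0, 4, 3, 4, 3, 3, 4, 3, 3, 0, 4, 3, 0, 3, 1, 2, 2]], [[116], [128], [134]], [56, 65, 68, 70, 72, 74, 75, 76, 89, 91, 114, 116, 118, 122, 124, 158], lo5_T0, [[134], [128], [120], [116], [120], [124], [122], [124]], 1440, 123200⟩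
def lo6_S2 : List (List ℕ) := [[2, 0, 2, 0, 3, 0, 3, 0, 3, 0, 2, 0, 3, 3, 0, 2, 2, 2, 0, 2], [0, 3, 0, 2, 2, 0, 2, 0, 3, 0, 3, 3, 0, 2, 0, 2, 2, 0, 2, 2]]
def lo6_T2 : List (List ℕ) := lo6_S2 ++ []
theorem lo6_k2 : stepOk ap 6 1408 id lo6_S2 [] 7 10 = true := by decide +kernel
def lo6_S1 : List (List ℕ) := [[2, 0, 2, 0, 3, 3, 0, 3, 0, 2, 0, 2, 2, 1, 2, 2, 2], [3, 3, 0, 3, 4, 3, 3, 4, 3, 3, 0, 4, 3, 0, 3, 0, 2, 2, 4]]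
def lo6_T1 : List (List ℕ) := lo6_S1 ++ lo6_T2
theorem lo6_k1 : stepOk ap 6 1408 id lo6_S1 lo6_T2 3 25 = true := by decide +kernel
def lo6_S0 : List (List ℕ) := [[4, 3, 4, 2, 2, 0, 2, 4, 2, 4, 2, 2, 0, 4, 3, 0, 3, 0, 4, 2, 4]]
def lo6_T0 : List (List ℕ) := lo6_S0 ++ lo6_T1
theorem lo6_k0 : stepOk ap 6 1408 id lo6_S0 lo6_T1 0 2 = true := by decide +kernel
def d6 : DL := ⟨6, [[2, 0, 2, 0, 3, 3, 0, 3, 0, 2, 0, 2, 2, 1, 2, 2, 2], [4, 3, 4, 2, 2, 0, 2, 4, 2, 4, 2, 2, 0, 4, 3, 0, 3, 0, 4, 2, 4]], [[160], [174]], [78, 84, 88, 90, 92, 93, 94, 95, 96, 97, 126, 128, 130, 132, 134, 167], lo6_T0, [[174], [160], [158], [162], [166]], 500, 354816⟩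
def lo7_S4 : List (List ℕ) := [[0, 2, 0, 3, 0, 3, 0, 2, 0, 2, 0, 3, 0, 3, 0, 2]]
def lo7_T4 : List (List ℕ) := lo7_S4 ++ []
theorem lo7_k4 : stepOk ap 6 1408 id lo7_S4 [] 16 2 = true := by decide +kernel
def lo7_S3 : List (List ℕ) := [[0, 2, 0, 3, 0, 3, 0, 2, 0, 2, 0, 3, 0, 3, 0, 2], [0, 3, 3, 4, 2, 2, 2, 4, 2, 2, 0, 2, 2, 4, 2, 2, 2, 4, 3, 3]]
def lo7_T3 : List (List ℕ) := lo7_S3 ++ lo7_T4
theorem lo7_k3 : stepOk ap 6 1408 id lo7_S3 lo7_T4 8 5 = true := by decide +kernel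
def lo7_S2 : List (List ℕ) := [[2, 0, 3, 3, 0, 3, 3, 0, 3, 0, 2, 0, 2, 1, 3, 3], [0, 2, 0, 3, 0, 3, 0, 2, 0, 2, 0, 3, 0, 3, 0, 2]]
def lo7_T2 : List (List ℕ) := lo7_S2 ++ lo7_T3
theorem lo7_k2 : stepOk ap 6 1408 id lo7_S2 lo7_T3 7 6 = true := by decide +kernel
def lo7_S1 : List (List ℕ) := [[2, 0, 2, 0, 2, 2, 0, 3, 3, 0, 2, 2, 0, 2, 0, 2, 0, 3, 0]]
def lo7_T1 : List (List ℕ) := lo7_S1 ++ lo7_T2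
theorem lo7_k1 : stepOk ap 6 1408 id lo7_S1 lo7_T2 3 2 = true := by decide +kernel
def lo7_S0 : List (List ℕ) := [[0, 4, 2, 4, 3, 1, 4]]
def lo7_T0 : List (List ℕ) := lo7_S0 ++ lo7_T1
theorem lo7_k0 : stepOk ap 6 1408 id lo7_S0 lo7_T1 0 2 = true := by decide +kernel
def d7 : DL := ⟨7, [[3, 0, 2, 2, 2, 1, 2], [0, 2, 0, 3, 0, 3, 0, 2, 0, 2, 0, 3, 0, 3, 0, 2], [2, 0, 2, 0, 2, 2, 0, 3, 3, 0, 2, 2, 0, 2, 0, 2, 0, 3, 0], [0, 4, 2, 4, 3, 1, 4]], [[200], [210], [212], [240]], [99, 107, 109, 111, 113, 115, 117, 121, 123, 125, 127, 129, 131, 133, 135, 136, 137, 138, 139, 140, 141, 142, 143, 144, 145, 146, 147, 169, 171, 173], lo7_T0, [[240], [212], [206], [210], [210], [204], [210]], 240, 739200⟩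
def lo8_S4 : List (List ℕ) := [[0, 2, 0, 3, 0, 3, 0, 2, 0, 2, 0, 3, 0, 3, 0, 2]]
def lo8_T4 : List (List ℕ) := lo8_S4 ++ []
theorem lo8_k4 : stepOk ap 6 1408 id lo8_S4 [] 16 2 = true := by decide +kernel
def lo8_S3 : List (List ℕ) := [[0, 2, 0, 3, 3, 0, 2, 0, 2], [0, 2, 0, 3, 0, 3, 0, 2, 0, 2, 0, 3, 0, 3, 0, 2]]
def lo8_T3 : List (List ℕ) := lo8_S3 ++ lo8_T4
theorem lo8_k3 : stepOk ap 6 1408 id lo8_S3 lo8_T4 8 6 = true := by decide +kernel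
def lo8_S2 : List (List ℕ) := [[2, 4, 2, 2, 0, 3, 4, 3, 3, 0, 3, 0, 4, 2, 4, 2, 2, 4, 2, 0, 3, 3, 4, 3]]
def lo8_T2 : List (List ℕ) := lo8_S2 ++ lo8_T3
theorem lo8_k2 : stepOk ap 6 1408 id lo8_S2 lo8_T3 7 2 = true := by decide +kernel
def lo8_S0 : List (List ℕ) := [[0, 3, 0, 3, 0, 2, 2, 1, 3], [2, 4, 3, 4, 3, 3, 0, 2, 1, 2, 2, 4, 2, 4, 2, 0, 2, 2, 4, 3, 0, 3, 3]]
def lo8_T0 : List (List ℕ) := lo8_S0 ++ lo8_T2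
theorem lo8_k0 : stepOk ap 6 1408 id lo8_S0 lo8_T2 0 1280 = true := by decide +kernel
def d8 : DL := ⟨8, [[0, 3, 0, 3, 0, 2, 2, 1, 3], [2, 4, 3, 4, 3, 3, 0, 2, 1, 2, 2, 4, 2, 4, 2, 0, 2, 2, 4, 3, 0, 3, 3]], [[308], [312]], [148, 157], lo8_T0, [[308], [312], [304], [300], [302], [302]], 30720, 5775⟩
def lo9_S2 : List (List ℕ) := [[0, 2, 0, 2, 0, 3, 0, 3, 0, 2, 0, 2, 0, 3, 0, 3], [0, 2, 0, 4, 3, 4, 2, 4, 2, 4, 3, 3, 1, 4, 2, 4, 3]]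
def lo9_T2 : List (List ℕ) := lo9_S2 ++ []
theorem lo9_k2 : stepOk ap 6 1408 id lo9_S2 [] 7 4 = true := by decide +kernel
def lo9_S0 : List (List ℕ) := [[0, 0, 4], [0, 2, 2, 4, 2, 2, 0, 2, 2, 0, 2, 4, 2, 2, 0, 4, 2, 0, 2, 0]]
def lo9_T0 : List (List ℕ) := lo9_S0 ++ lo9_T2
theorem lo9_k0 : stepOk ap 6 1408 id lo9_S0 lo9_T2 0 160 = true := by decide +kernel
def d9 : DL := ⟨9, [[0, 2, 0, 4, 3, 4, 2, 4, 2, 4, 3, 3, 1, 4, 2, 4, 3], [0, 2, 2, 4, 2, 2, 0, 2, 2, 0, 2, 4, 2, 2, 0, 4, 2, 0, 2, 0]], [[320], [330]], [159, 166, 168, 170, 172, 174, 175], lo9_T0, [[326], [330], [322], [320]], 640, 277200⟩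

end Cfsg.Agent.H15.Hn
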