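import Cfsg.Agent.H15.Hn.D0
set_option autoImplicit false
set_option maxRecDepth 100000

namespace Cfsg.Agent.H15.Hn
open Cfsg.Agent.H15 Cfsg.Agent.H14

theorem g0 : dP.Good 0 20 := DP.good_of [⟨0, [], [], []⟩,
  ⟨1, [], [], [⟨0, [], []⟩]⟩,
  ⟨2, [0, 0], [], [⟨1, [], []⟩, ⟨0, [3], [0]⟩]⟩,
  ⟨2, [0, 0], [], [⟨1, [], []⟩, ⟨0, [1, 3, 0], [2]⟩]⟩,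
  ⟨7, [], [4, 7, 4], []⟩,
  ⟨7, [], [4, 6, 5, 7], []⟩,
  ⟨7, [], [8, 8, 11, 9], []⟩,
  ⟨7, [], [9, 13, 9], []⟩,
  ⟨7, [], [15, 13], []⟩,
  ⟨7, [], [9, 11, 13, 11], []⟩,
  ⟨3, [], [], [⟨1, [], []⟩, ⟨0, [1, 1], []⟩]⟩,
  ⟨4, [], [], [⟨1, [], []⟩, ⟨0, [0], []⟩]⟩,
  ⟨1, [], [], [⟨11, [], []⟩]⟩,
  ⟨6, [], [], [⟨1, [], []⟩, ⟨0, [5, 1, 1], []⟩]⟩,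
  ⟨0, [], [], []⟩,
  ⟨1, [], [], [⟨14, [], []⟩]⟩,
  ⟨2, [0, 0], [], [⟨15, [], []⟩, ⟨14, [4, 6, 12, 11, 6, 5, 5], [1, 1, 2, 0, 3, 0, 2, 0]⟩]⟩,
  ⟨2, [0, 0], [], [⟨15, [], []⟩, ⟨14, [4, 4, 9, 10, 4, 11, 5], [1, 2, 2, 2, 1, 3, 3, 0, 2, 2, 0, 0]⟩]⟩,
  ⟨7, [], [33, 34, 33, 35, 33], []⟩,
  ⟨7, [], [33, 36, 35, 35], []⟩] (by decide +kernel)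
theorem g20 : dP.Good 20 40 := DP.good_of [⟨2, [0, 0], [], [⟨15, [], []⟩, ⟨14, [4, 9, 11, 9, 6, 11, 5], [1, 1, 3, 3, 0, 0, 3, 3, 1, 2, 0, 2]⟩]⟩,
  ⟨7, [], [32, 38, 41, 33], []⟩,
  ⟨7, [], [37, 38, 43, 37, 43, 36], []⟩,
  ⟨6, [], [], [⟨10, [], []⟩, ⟨14, [], []⟩]⟩,
  ⟨2, [4], [], [⟨23, [], []⟩, ⟨14, [], []⟩]⟩,
  ⟨5, [], [], [⟨13, [], []⟩, ⟨14, [], []⟩]⟩,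
  ⟨2, [], [], [⟨25, [], []⟩, ⟨14, [], []⟩]⟩,
  ⟨0, [], [], []⟩,
  ⟨1, [], [], [⟨27, [], []⟩]⟩,
  ⟨2, [0, 0], [], [⟨28, [], []⟩, ⟨27, [7, 18, 6, 5, 10, 5], [1, 3, 1, 1, 3, 0, 0, 3, 0, 2, 2, 1]⟩]⟩,
  ⟨2, [0, 0], [], [⟨28, [], []⟩, ⟨27, [4, 11, 6, 19, 7, 5, 5], [2, 0, 3, 1, 1, 2, 2, 1, 1, 2]⟩]⟩,
  ⟨7, [], [59, 61], []⟩,
  ⟨7, [], [63, 58, 61, 63, 59], []⟩,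
  ⟨6, [], [], [⟨12, [], []⟩, ⟨27, [], []⟩]⟩,
  ⟨1, [], [], [⟨33, [], []⟩]⟩,
  ⟨3, [], [], [⟨13, [], []⟩, ⟨34, [], []⟩]⟩,
  ⟨2, [1, 4], [], [⟨35, [], []⟩, ⟨27, [], []⟩]⟩,
  ⟨3, [], [], [⟨15, [], []⟩, ⟨27, [], []⟩]⟩,
  ⟨1, [], [], [⟨37, [], []⟩]⟩,
  ⟨4, [], [], [⟨28, [], []⟩, ⟨34, [], []⟩]⟩] (by decide +kernel)
theorem g40 : dP.Good 40 60 := DP.good_of [⟨0, [], [], []⟩,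
  ⟨1, [], [], [⟨40, [], []⟩]⟩,
  ⟨2, [0, 0], [], [⟨41, [], []⟩, ⟨40, [4, 12, 11, 9, 6, 4, 11], [0, 0, 0, 3, 1, 1, 2, 1, 1, 3, 1, 1, 2, 0]⟩]⟩,
  ⟨2, [0, 0], [], [⟨41, [], []⟩, ⟨40, [4, 16, 4, 6, 17, 19, 7], [3, 0, 0, 3, 0, 2, 0, 2, 1]⟩]⟩,
  ⟨7, [], [84, 87, 85], []⟩,
  ⟨6, [1, 3, 3, 0, 0, 2, 1, 1, 2, 0, 3, 1, 1], [], [⟨13, [], [0]⟩, ⟨40, [19, 11, 7], [1, 2, 2, 0, 3, 1, 2, 0, 0, 3, 1, 3]⟩]⟩,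
  ⟨2, [4, 2, 0, 4, 2, 1, 4], [], [⟨45, [], []⟩, ⟨40, [19, 11, 7], [0, 0, 2, 1, 3, 1, 2, 1, 1, 3, 1, 1, 2, 2, 0]⟩]⟩,
  ⟨6, [3, 1, 2, 0, 0, 2, 0, 0, 0, 2, 0, 3, 1], [], [⟨15, [], [2, 0]⟩, ⟨40, [19, 4], [1, 1, 2, 0, 0, 3, 0, 2, 2, 0, 3, 1, 2]⟩]⟩,
  ⟨1, [0, 0, 3, 0, 2, 0, 0, 2, 1, 1, 2, 2], [], [⟨47, [], []⟩]⟩,
  ⟨2, [3, 0, 3, 1, 4], [], [⟨48, [], []⟩, ⟨47, [92, 89, 93], [1, 2, 1, 3, 1, 2, 2, 0, 3, 3, 0, 2, 2]⟩]⟩,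
  ⟨2, [0, 3, 4, 3, 0, 3, 4, 3, 4, 3, 0, 2, 2, 4, 2, 4, 2, 2, 2, 4, 2], [], [⟨47, [], []⟩, ⟨38, [34, 99, 53, 49], [1, 2, 0, 0, 2, 0, 2, 1, 1, 3, 3, 1, 2]⟩]⟩,
  ⟨7, [], [], [⟨50, [], [3, 1, 2, 1, 3, 3, 0, 3, 5, 3, 1, 3, 1, 2, 2, 5, 3, 3, 5, 2]⟩]⟩,
  ⟨1, [0, 2, 0, 0, 0, 2, 2, 0, 3, 1, 2, 0, 3], [], [⟨40, [], []⟩, ⟨51, [], [0, 0]⟩]⟩,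
  ⟨6, [0, 0, 3, 1, 2, 2, 0, 3, 1, 1], [], [⟨28, [], [2, 0]⟩, ⟨40, [6, 5, 19, 5], [3, 0, 0, 2, 1, 3, 0, 2, 2, 1, 3]⟩, ⟨51, [], [0, 3, 0, 2, 2, 0, 2, 0, 3, 0, 3, 0, 2, 1, 2, 2, 0, 3, 0, 3, 0, 4]⟩]⟩,
  ⟨6, [0, 2, 2, 0, 3, 1, 2, 2], [], [⟨33, [], [0]⟩, ⟨40, [6], [2]⟩, ⟨51, [], [0, 2, 1, 4]⟩]⟩,
  ⟨0, [], [], []⟩,
  ⟨1, [], [], [⟨55, [], []⟩]⟩,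
  ⟨2, [0, 0], [], [⟨56, [], []⟩, ⟨55, [4, 8, 10, 8, 4, 12, 6], [1, 2, 0, 2, 2, 1, 1, 2, 2, 0, 2, 1, 1]⟩]⟩,
  ⟨2, [0, 0], [], [⟨56, [], []⟩, ⟨55, [6, 11, 16, 9, 19, 7], [1, 2, 2, 2, 0, 3, 1, 2, 2, 2, 1, 3, 1]⟩]⟩,
  ⟨7, [], [114, 117], []⟩] (by decide +kernel)
theorem g60 : dP.Good 60 80 := DP.good_of [⟨7, [], [114, 116, 119, 115], []⟩,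
  ⟨7, [], [121, 118], []⟩,
  ⟨7, [], [123, 123, 118, 123, 119, 121], []⟩,
  ⟨6, [0, 0, 2, 1, 3, 3, 1, 2, 2, 2], [], [⟨13, [], [2, 0]⟩, ⟨55, [19, 4], [1, 1, 2, 0, 0, 3, 3, 0, 0, 2, 2, 0, 3, 3]⟩]⟩,
  ⟨2, [4, 2, 4, 3, 1, 4], [], [⟨63, [], []⟩, ⟨55, [19, 4], [0, 0, 3, 1, 2, 0, 3, 1, 3, 0, 2, 1, 3, 0]⟩]⟩,
  ⟨6, [0, 3, 0], [], [⟨15, [], [0]⟩, ⟨55, [9], [0, 3, 0]⟩]⟩,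
  ⟨1, [1, 2, 1], [], [⟨65, [], []⟩]⟩,
  ⟨2, [4], [], [⟨65, [], []⟩, ⟨66, [38, 48, 98, 35, 52, 42, 99, 49, 35], [3, 1, 2, 1, 1, 2, 2, 2, 1, 3, 1, 2]⟩]⟩,
  ⟨6, [0, 2, 2, 2, 0, 2, 1, 3, 1, 1, 2, 0], [], [⟨28, [], [0]⟩, ⟨55, [19, 10, 7], [0, 2, 0, 3, 1, 2, 1, 1, 2, 0, 2, 1]⟩]⟩,
  ⟨1, [1, 3, 0, 0, 2, 0, 3, 1, 2, 2, 2, 1], [], [⟨68, [], []⟩]⟩,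
  ⟨6, [0, 0, 0, 2, 0, 0, 3, 1, 3, 0, 2, 0, 3], [], [⟨33, [], [2, 0]⟩, ⟨55, [6, 5, 19, 5], [0, 0, 0, 3, 1, 1, 2, 0, 0, 2, 0, 3]⟩]⟩,
  ⟨1, [0, 2, 0, 0, 2, 1, 1, 2, 0, 0, 0, 2], [], [⟨70, [], []⟩]⟩,
  ⟨5, [0, 3, 1, 2, 0, 3, 1, 1, 2, 2, 2, 1, 3], [], [⟨52, [], []⟩, ⟨55, [], [0, 3, 1, 2, 0, 3, 1, 1, 2, 2, 2, 1, 3]⟩]⟩,
  ⟨1, [1, 2, 0, 0, 2, 0, 2, 1, 1, 3, 3, 1, 2], [], [⟨72, [], []⟩]⟩,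
  ⟨3, [2, 0, 2, 1, 3, 3, 1, 2, 2, 1, 3, 3], [], [⟨56, [], []⟩, ⟨55, [11, 13, 7], [0, 2, 0, 3, 1, 1, 3, 0, 0, 3, 1, 1]⟩]⟩,
  ⟨3, [], [], [⟨65, [], []⟩, ⟨66, [53], [1, 2, 1]⟩]⟩,
  ⟨6, [0, 3, 3, 1, 3, 3, 1, 2, 2, 0, 3, 1, 2, 0, 3], [], [⟨65, [], [1]⟩, ⟨66, [53, 49, 41, 33], [2, 2, 0, 3, 1, 1, 2, 2, 0, 2, 2, 0, 0]⟩]⟩,
  ⟨0, [], [], []⟩,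
  ⟨1, [], [], [⟨77, [], []⟩]⟩,
  ⟨2, [0, 0], [], [⟨78, [], []⟩, ⟨77, [8, 13, 18, 12, 5, 13, 6], [2, 2, 0, 3, 0, 0, 0, 2, 1, 1, 3, 1, 2]⟩]⟩] (by decide +kernel)
theorem g80 : dP.Good 80 100 := DP.good_of [⟨2, [0, 0], [], [⟨78, [], []⟩, ⟨77, [6, 11, 7, 8, 17, 7], [0, 2, 1, 1, 3, 0, 2, 2, 0, 0, 0]⟩]⟩,
  ⟨7, [], [159, 160, 159, 161], []⟩,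
  ⟨2, [0, 0], [], [⟨78, [], []⟩, ⟨77, [8, 5, 14, 5, 6, 10, 6], [2, 0, 0, 0, 2, 1, 3, 1, 3, 0, 2, 2]⟩]⟩,
  ⟨7, [], [160, 160, 159, 164], []⟩,
  ⟨6, [1, 2, 1, 1, 3, 1, 2, 1, 1, 2, 2, 0], [], [⟨52, [], [0]⟩, ⟨77, [14, 10, 17], [2, 0, 0, 3, 1, 1, 3, 0, 2, 1, 3, 1]⟩]⟩,
  ⟨1, [0, 2, 2, 0, 0, 3, 3, 1, 1, 2, 1, 3, 3, 1], [], [⟨84, [], []⟩]⟩,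
  ⟨6, [3, 1, 1, 2, 2, 0, 2, 2, 0, 3, 3, 1, 1], [], [⟨54, [], [2]⟩, ⟨85, [73, 63, 61], [2, 2, 1, 1, 2, 2]⟩]⟩,
  ⟨2, [4, 2, 4], [], [⟨86, [], []⟩, ⟨85, [62, 73, 59, 59], [0, 3, 3, 0, 2, 0, 0, 2, 1, 1, 3, 0, 2]⟩]⟩,
  ⟨6, [0, 2, 2, 0], [], [⟨56, [], [3]⟩, ⟨77, [7, 11, 5], [3, 1, 2, 2, 0]⟩]⟩,
  ⟨1, [1, 3, 3, 1], [], [⟨88, [], []⟩]⟩,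
  ⟨6, [1, 3, 1, 1, 2, 1, 1, 2, 2, 0, 2], [], [⟨70, [], [0]⟩, ⟨85, [73, 60, 65, 58], [2, 0, 0, 0, 3, 0, 0, 2, 2, 2, 0, 3]⟩]⟩,
  ⟨1, [3, 0, 0, 0, 2, 0, 2, 2, 2, 1, 3], [], [⟨90, [], []⟩]⟩,
  ⟨3, [0, 3, 0, 2, 0, 3, 1, 1, 3, 1], [], [⟨78, [], []⟩, ⟨77, [6, 19, 5], [0, 3, 0, 0, 2, 1, 3, 3, 1, 3]⟩]⟩,
  ⟨4, [1, 2, 1, 1, 3, 1, 1, 2, 2, 0, 3, 1, 3], [], [⟨78, [], []⟩, ⟨77, [17, 13, 4], [1, 2, 1, 3, 1, 3, 3, 0, 0, 2, 1, 3, 1]⟩]⟩,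
  ⟨1, [2, 0, 2, 1, 3, 1, 2, 1, 1, 3, 1, 1, 2], [], [⟨93, [], []⟩]⟩,
  ⟨3, [1, 1, 2, 1, 3, 0, 0, 3, 0, 2, 2, 0, 0, 0], [], [⟨84, [], []⟩, ⟨85, [59, 60, 65, 61, 59], [1, 2, 0, 0, 2, 0, 2, 2, 1, 1, 3]⟩]⟩,
  ⟨6, [0, 3, 1, 1, 3, 0, 0, 3, 3, 1], [], [⟨84, [], [0]⟩, ⟨85, [73, 65, 61], [3, 3, 1, 2, 0, 0, 2, 0, 0, 0, 2]⟩]⟩,
  ⟨6, [3, 0, 0, 3, 1, 3, 0, 2, 0, 3, 1, 2], [], [⟨84, [], [2]⟩, ⟨85, [63, 63, 73, 63], [1, 2, 2, 1, 1, 3, 0, 0, 0]⟩]⟩,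
  ⟨0, [], [], []⟩,
  ⟨1, [], [], [⟨98, [], []⟩]⟩] (by decide +kernel)
theorem g100 : dP.Good 100 120 := DP.good_of [⟨2, [0, 0], [], [⟨99, [], []⟩, ⟨98, [40, 48, 99, 40, 39, 43, 33, 98, 49], [1, 2, 2, 2, 0]⟩]⟩,
  ⟨2, [0, 0], [], [⟨99, [], []⟩, ⟨98, [40, 44, 48, 99, 38, 98, 49, 37, 33], [0, 0, 2, 0, 0, 2, 1, 3, 1, 3, 0]⟩]⟩,
  ⟨7, [], [203, 203, 201], []⟩,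
  ⟨2, [0, 0], [], [⟨99, [], []⟩, ⟨98, [33, 37, 99, 34, 33, 99, 32], [0, 3, 3, 1, 1, 3, 0, 2, 1, 1]⟩]⟩,
  ⟨7, [], [200, 207], []⟩,
  ⟨7, [], [204, 209, 205], []⟩,
  ⟨2, [0, 0], [], [⟨99, [], []⟩, ⟨98, [35, 52, 32, 42, 99], [0, 2, 0, 0, 3, 3, 0, 0, 2, 0, 3]⟩]⟩,
  ⟨6, [0, 2, 0, 2, 2, 0, 3, 1, 3, 0, 0, 2, 0], [], [⟨37, [], [0]⟩, ⟨98, [41, 34, 32], [0, 2, 0, 2, 2, 0, 3, 1, 3, 0, 0, 2, 0]⟩]⟩,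
  ⟨1, [1, 1, 2, 1, 1, 3, 0, 2, 1, 3, 1, 3, 3], [], [⟨107, [], []⟩]⟩,
  ⟨3, [0, 3, 0, 0, 2, 2, 2, 1, 1, 2], [], [⟨54, [], []⟩, ⟨108, [73], [3, 3, 0, 2, 1, 3, 3, 1]⟩]⟩,
  ⟨1, [0, 3, 3, 0, 0, 0, 2, 0, 0, 3], [], [⟨109, [], []⟩]⟩,
  ⟨6, [0, 3, 1, 2, 0, 3, 0, 0, 0, 3, 3, 1], [], [⟨54, [], [2, 0]⟩, ⟨110, [60, 60, 73], [0, 0, 2, 1, 3, 1, 1, 2, 0, 0, 2, 0]⟩]⟩,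
  ⟨1, [0, 2, 2, 2, 0, 3, 1, 1, 2, 2, 0, 3], [], [⟨111, [], []⟩]⟩,
  ⟨4, [1, 3, 1, 1, 2, 1, 3, 0, 2, 2, 0, 3, 1], [], [⟨65, [], []⟩, ⟨98, [53, 37, 32], [0, 0, 3, 1, 1, 3, 0, 0, 3, 3, 1, 3, 3]⟩]⟩,
  ⟨1, [0, 0, 2, 0, 0, 3, 3, 0, 2, 2, 0, 3, 3], [], [⟨113, [], []⟩]⟩,
  ⟨5, [0, 0, 3, 1, 1, 3, 0, 0, 3, 3, 1, 3, 3], [], [⟨65, [], []⟩, ⟨98, [37, 32], [0, 0, 3, 1, 1, 3, 0, 0, 3, 3, 1, 3, 3]⟩]⟩,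
  ⟨1, [2, 0, 3, 1, 1, 3, 0, 0, 3, 0, 2, 0, 2], [], [⟨115, [], []⟩]⟩,
  ⟨6, [0, 3, 3, 0, 2, 1, 3, 1, 3, 3, 0, 0, 2, 0, 3], [], [⟨65, [], [3]⟩, ⟨98, [98, 49, 45, 34, 33], [0, 3, 0, 2, 0, 0, 3, 0, 2, 1, 3, 1]⟩]⟩,
  ⟨1, [0, 2, 1, 3, 0, 2, 2, 1, 1, 2, 1, 3, 1, 1, 2], [], [⟨117, [], []⟩]⟩,
  ⟨6, [1, 1, 2, 0, 0, 3, 1, 3, 0, 2, 0, 0], [], [⟨65, [], [1, 1, 2, 0, 3, 1, 1]⟩, ⟨98, [53, 49, 37, 32], [1, 3, 0, 2, 2, 0, 2, 2, 0, 0, 2, 0]⟩]⟩] (by decide +kernel)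
theorem g120 : dP.Good 120 140 := DP.good_of [⟨2, [4, 2, 4, 3, 1, 4], [], [⟨119, [], []⟩, ⟨114, [129], [2, 1, 1, 2, 0, 0, 2, 1, 1, 2, 2, 0, 2]⟩]⟩,
  ⟨3, [0, 2, 0, 3, 0, 2, 1, 1, 3, 0, 0, 2, 0, 0], [], [⟨68, [], []⟩, ⟨110, [60, 59, 73], [3, 0, 2, 0, 3, 1, 1, 2, 2, 1, 1, 2, 2]⟩]⟩,
  ⟨1, [1, 1, 3, 0, 2, 2, 0, 0, 0, 2, 1, 3, 0, 0], [], [⟨121, [], []⟩]⟩,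
  ⟨6, [2, 0, 0, 0, 3, 3, 1, 1, 2, 1, 3, 1, 2], [], [⟨68, [], [1, 1]⟩, ⟨108, [62, 73, 59], [2, 1, 3, 1, 2, 2, 2, 1, 1, 3, 1]⟩]⟩,
  ⟨1, [2, 0, 0, 3, 3, 0, 0, 2, 1, 1, 3, 3, 0, 0, 0], [], [⟨123, [], []⟩]⟩,
  ⟨4, [2, 0, 3, 0, 2, 2, 0, 2, 1, 1, 3], [], [⟨84, [], []⟩, ⟨112, [63, 63, 73, 65], [1, 1, 3, 0, 2, 0, 0, 3, 3, 0, 2, 2]⟩]⟩,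
  ⟨1, [2, 0, 0, 3, 1, 2, 2, 2, 0, 3, 3], [], [⟨125, [], []⟩]⟩,
  ⟨5, [2, 2, 2, 1, 3, 0, 2, 2, 1, 3, 1], [], [⟨84, [], []⟩, ⟨112, [61, 59, 73, 63], [0, 3, 3, 1, 2, 0, 3, 0, 0, 3, 3, 1, 2]⟩]⟩,
  ⟨1, [0, 2, 0, 3, 3, 1, 2, 0, 2, 2, 2], [], [⟨127, [], []⟩]⟩,
  ⟨6, [1, 2, 0, 3, 1, 3, 0, 0, 2, 1, 1, 2], [], [⟨84, [], [0, 0]⟩, ⟨112, [61, 59, 63], [3, 0, 0, 2, 1, 3, 1, 2, 0, 2, 1, 1]⟩]⟩,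
  ⟨1, [0, 0, 2, 0, 0, 3, 1, 1, 2, 0, 3, 0], [], [⟨129, [], []⟩]⟩,
  ⟨6, [2, 1, 3, 1, 2, 1, 1, 3, 1, 1, 2, 2, 0], [], [⟨84, [], [2, 0]⟩, ⟨112, [58, 60], [1, 2, 1, 1, 2, 1, 3, 1, 1, 2, 1]⟩]⟩,
  ⟨1, [3, 3, 0, 0, 0, 3, 1, 2, 0, 3], [], [⟨131, [], []⟩]⟩,
  ⟨6, [3, 1, 2, 1, 1, 3, 1, 1, 3, 0, 0, 2, 1], [], [⟨84, [], [0, 0, 3, 1, 2, 0, 0]⟩, ⟨110, [63, 73], [1, 2, 0, 0, 0, 2, 1, 3, 0, 0, 3]⟩]⟩,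
  ⟨1, [0, 0, 0, 2, 0, 0, 3, 0, 2, 1, 1, 3, 0, 2], [], [⟨133, [], []⟩]⟩,
  ⟨3, [], [], [⟨99, [], []⟩, ⟨98, [53], []⟩]⟩,
  ⟨6, [3, 0, 2, 0, 0, 3, 3, 0, 0, 2, 1, 1, 3], [], [⟨99, [], [0]⟩, ⟨98, [32, 99, 49], [1, 3, 1, 1, 2, 2, 0, 0, 3, 0, 2, 1]⟩]⟩,
  ⟨6, [0, 0, 2, 2, 0, 2, 1, 1, 2, 1, 3, 0, 2, 0, 0], [], [⟨99, [], [1]⟩, ⟨98, [49, 32, 34, 33], [3, 0, 2, 2, 1, 1, 2, 1, 3, 0, 2, 0, 0, 2]⟩]⟩,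
  ⟨5, [1, 3, 3, 0, 2, 2, 0, 2, 1, 3, 0, 0, 2, 0], [], [⟨107, [], []⟩, ⟨110, [73, 58, 60], [2, 0, 3, 1, 3, 0, 0, 2, 0, 0, 2, 1, 3]⟩]⟩,
  ⟨6, [1, 1, 2, 0, 0, 2, 2, 2, 0, 2, 2], [], [⟨107, [], [0]⟩, ⟨110, [58, 65, 58], [0, 2, 2, 0, 0, 3, 0, 2, 0, 2, 2, 2, 1]⟩]⟩] (by decide +kernel)
theorem g140 : dP.Good 140 160 := DP.good_of [⟨1, [3, 3, 1, 2, 2, 2, 1, 1, 3, 0, 0], [], [⟨139, [], []⟩]⟩,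
  ⟨6, [2, 2, 1, 1, 3, 0, 2, 0, 0, 2, 1], [], [⟨109, [], [1]⟩, ⟨112, [61, 61, 65], [2, 0, 3, 1, 2, 0, 0, 3, 0, 2, 0, 2]⟩]⟩,
  ⟨6, [0, 3, 3, 0, 2, 1, 3, 3, 1, 2, 2], [], [⟨111, [], [3]⟩, ⟨112, [62, 73, 63, 61], [0, 2, 0, 3, 1, 2, 2, 0, 3, 1, 2, 1, 1, 3]⟩]⟩,
  ⟨1, [1, 1, 2, 2, 2, 0, 3, 1, 2, 0, 0, 3, 3, 1], [], [⟨142, [], []⟩]⟩,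
  ⟨6, [1, 3, 3, 0, 0, 2, 1, 3, 0, 2, 2, 0, 3], [], [⟨113, [], [1]⟩, ⟨118, [121, 121, 114], [0, 0, 2, 1, 3, 0, 2, 1, 3, 1, 2, 0, 3, 1]⟩]⟩,
  ⟨6, [1, 3, 1, 2, 0, 0, 0, 2, 1, 3, 0, 0], [], [⟨117, [], [3]⟩, ⟨118, [129, 121, 121], [2, 0, 0, 3, 0, 2, 2, 0, 3, 3, 0, 2]⟩]⟩,
  ⟨1, [0, 3, 1, 3, 3, 0, 0, 0, 2, 0, 3, 1, 3], [], [⟨145, [], []⟩]⟩,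
  ⟨0, [], [], []⟩,
  ⟨1, [], [], [⟨147, [], []⟩]⟩,
  ⟨2, [0, 0], [], [⟨148, [], []⟩, ⟨147, [207, 210, 202], [1, 3, 0, 0, 3, 3, 1, 2, 2, 1]⟩]⟩,
  ⟨2, [0, 0], [], [⟨148, [], []⟩, ⟨147, [202, 204, 206], [2, 1, 1, 2, 0]⟩]⟩,
  ⟨7, [], [301, 298], []⟩,
  ⟨2, [0, 0], [], [⟨148, [], []⟩, ⟨147, [240, 212, 241, 202], [0, 2, 0, 3, 1, 1, 3, 0, 0, 2, 2, 1, 3, 3, 1]⟩]⟩,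
  ⟨5, [0, 2, 2, 1, 3, 3, 0, 0, 3, 3, 1, 3, 0], [], [⟨136, [], []⟩, ⟨147, [], [0, 2, 2, 1, 3, 3, 0, 0, 3, 3, 1, 3, 0]⟩]⟩,
  ⟨2, [], [], [⟨153, [], []⟩, ⟨147, [206], [3, 1, 2, 2, 1]⟩]⟩,
  ⟨6, [0, 3, 3, 0, 0, 2, 0, 3, 1, 1, 2, 2, 0], [], [⟨141, [], [1, 2, 2, 2]⟩, ⟨147, [], [1, 1, 3, 3, 1, 3, 0, 2, 0, 0, 2, 2, 1]⟩]⟩,
  ⟨2, [0, 4, 3, 1, 4, 3, 4], [], [⟨155, [], []⟩, ⟨147, [241, 202], [0, 3, 1, 1, 2, 1, 1, 3, 1, 2, 1, 3, 0]⟩]⟩,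
  ⟨6, [0, 2, 2, 2, 1, 3, 1, 2, 0], [], [⟨148, [], [0, 2, 0, 0]⟩, ⟨147, [241, 206], [0, 3, 1, 1, 2, 2, 2, 1, 3, 1, 2, 0]⟩]⟩,
  ⟨0, [], [], []⟩,
  ⟨1, [], [], [⟨158, [], []⟩]⟩] (by decide +kernel)
theorem g160 : dP.Good 160 177 := DP.good_of [⟨2, [0, 0], [], [⟨159, [], []⟩, ⟨158, [115, 115, 120, 128, 135, 129, 125, 114, 114], [0, 2, 0, 0, 3, 1, 2, 1, 3, 1, 2, 0]⟩]⟩,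
  ⟨2, [0, 0], [], [⟨159, [], []⟩, ⟨158, [114, 122, 114, 128, 121, 129, 123, 114, 114], [0, 2, 1, 3, 0, 2, 1, 3]⟩]⟩,
  ⟨6, [], [], [⟨75, [], [1]⟩, ⟨158, [], []⟩]⟩,
  ⟨2, [4], [], [⟨162, [], []⟩, ⟨158, [], []⟩]⟩,
  ⟨6, [0, 3, 0, 2, 0, 0, 3, 0, 0, 3, 1, 1, 2, 0], [], [⟨76, [], [1]⟩, ⟨158, [129, 116, 119], [1, 2, 2, 1, 1, 3, 0, 2, 1, 3, 3, 0]⟩]⟩,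
  ⟨2, [0, 3, 0, 2, 0, 2, 2, 0, 4], [], [⟨164, [], []⟩, ⟨158, [129, 125, 121, 115], [2, 2, 0, 3, 1, 2, 0, 2, 2, 1, 1]⟩]⟩,
  ⟨6, [2, 2, 1, 3, 0, 2, 2, 1, 3], [], [⟨88, [], [3, 0, 0]⟩, ⟨158, [125, 117], [0, 2, 2, 1, 3, 0, 2, 2, 1, 3]⟩]⟩,
  ⟨1, [0, 3, 0, 2, 0, 0, 2, 2, 1, 3, 1, 2, 1], [], [⟨166, [], []⟩]⟩,
  ⟨6, [0, 3, 1, 2, 0, 2, 2, 2], [], [⟨115, [], [3]⟩, ⟨158, [121, 121, 114], [0, 2, 1, 3, 0, 0, 2, 1, 3, 0, 2, 1, 3, 1]⟩]⟩,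
  ⟨1, [2, 0, 0, 3, 1, 2, 0, 3], [], [⟨168, [], []⟩]⟩,
  ⟨5, [0, 0, 0, 3, 3, 0, 2, 2, 0, 2, 2, 1, 1, 3, 1], [], [⟨117, [], []⟩, ⟨158, [], [0, 0, 0, 3, 3, 0, 2, 2, 0, 2, 2, 1, 1, 3, 1]⟩]⟩,
  ⟨1, [0, 2, 0, 0, 3, 0, 2, 0, 0, 3, 0, 2, 1, 3, 1], [], [⟨170, [], []⟩]⟩,
  ⟨6, [1, 2, 2, 1, 1, 3, 0, 0, 2, 1], [], [⟨117, [], [0]⟩, ⟨158, [129, 115, 117, 115], [0, 3, 3, 0, 2, 2, 0, 3, 1, 3, 3, 1, 2]⟩]⟩,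
  ⟨1, [2, 0, 3, 1, 1, 2, 0, 0, 3, 3, 0], [], [⟨172, [], []⟩]⟩,
  ⟨3, [3, 1, 1, 2, 1, 3, 1, 3, 3, 0, 0, 2], [], [⟨159, [], []⟩, ⟨158, [123, 135, 114], [1, 3, 1, 2, 1, 1, 3, 1, 1, 2, 2, 0]⟩]⟩,
  ⟨6, [0, 0, 2, 2, 1, 1, 3, 0, 0, 0], [], [⟨159, [], [0, 0, 0]⟩, ⟨158, [129, 121, 119], [0, 2, 1, 3, 0, 0, 2, 1, 3, 0, 0, 2, 0]⟩]⟩,
  ⟨1, [], [], [⟨50, [], [3, 0, 2, 0, 3, 3, 0, 3, 4, 3, 0, 3, 1, 2, 2, 4, 3, 3, 4, 2]⟩, ⟨41, [], []⟩]⟩] (by decide +kernel)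
theorem dgood : dP.Good 0 177 := (DP.Good.append (DP.Good.append (DP.Good.append g0 g20) (DP.Good.append g40 g60)) (DP.Good.append (DP.Good.append g80 g100) (DP.Good.append g120 (DP.Good.append g140 g160))))

end Cfsg.Agent.H15.Hn
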