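import Cfsg.Agent.H15.Hn.D1
set_option autoImplicit false
set_option maxRecDepth 100000

namespace Cfsg.Agent.H15.Hn
open Cfsg.Agent.H15 Cfsg.Agent.H14

theorem lv0a : (okS dP.L d0.S && dP.gains 177 d0.i d0.S d0.sws && dP.cov 177 1408 d0.i [0, 1, 2, 3, 5, 6, 7, 8, 9] d0.S d0.es 0) = true := by decide +kernel
theorem lv0b : (dP.gains 177 d0.i d0.T d0.tws && Nat.ble 177408000 (d0.b * d0.m) && Nat.blt 0 d0.m) = true := by decide +kernel
theorem lv2a : (okS dP.L d2.S && dP.gains 177 d2.i d2.S d2.sws && dP.cov 177 1408 d2.i [0, 1, 2, 3, 5, 6, 7, 8, 9] d2.S d2.es 0) = true := by decide +kernel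
theorem lv2b : (dP.gains 177 d2.i d2.T d2.tws && Nat.ble 177408000 (d2.b * d2.m) && Nat.blt 0 d2.m) = true := by decide +kernel
theorem lv5a : (okS dP.L d5.S && dP.gains 177 d5.i d5.S d5.sws && dP.cov 177 1408 d5.i [0, 1, 2, 3, 5, 6, 7, 8, 9] d5.S d5.es 0) = true := by decide +kernel
theorem lv5b : (dP.gains 177 d5.i d5.T d5.tws && Nat.ble 177408000 (d5.b * d5.m) && Nat.blt 0 d5.m) = true := by decide +kernel
theorem lv7a : (okS dP.L d7.S && dP.gains 177 d7.i d7.S d7.sws && dP.cov 177 1408 d7.i [0, 1, 2, 3, 5, 6, 7, 8, 9] d7.S d7.es 0) = true := by decide +kernel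
theorem lv7b : (dP.gains 177 d7.i d7.T d7.tws && Nat.ble 177408000 (d7.b * d7.m) && Nat.blt 0 d7.m) = true := by decide +kernel
theorem lv9a : (okS dP.L d9.S && dP.gains 177 d9.i d9.S d9.sws && dP.cov 177 1408 d9.i [0, 1, 2, 3, 5, 6, 7, 8, 9] d9.S d9.es 0) = true := by decide +kernel
theorem lv9b : (dP.gains 177 d9.i d9.T d9.tws && Nat.ble 177408000 (d9.b * d9.m) && Nat.blt 0 d9.m) = true := by decide +kernel

end Cfsg.Agent.H15.Hn
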