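import Cfsg.Agent.H15.Hn.D1
set_option autoImplicit false
set_option maxRecDepth 100000

namespace Cfsg.Agent.H15.Hn
open Cfsg.Agent.H15 Cfsg.Agent.H14

theorem lv1a : (okS dP.L d1.S && dP.gains 177 d1.i d1.S d1.sws && dP.cov 177 1408 d1.i [0, 1, 2, 3, 5, 6, 7, 8, 9] d1.S d1.es 0) = true := by decide +kernel
theorem lv1b : (dP.gains 177 d1.i d1.T d1.tws && Nat.ble 177408000 (d1.b * d1.m) && Nat.blt 0 d1.m) = true := by decide +kernel
theorem lv3a : (okS dP.L d3.S && dP.gains 177 d3.i d3.S d3.sws && dP.cov 177 1408 d3.i [0, 1, 2, 3, 5, 6, 7, 8, 9] d3.S d3.es 0) = true := by decide +kernel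
theorem lv3b : (dP.gains 177 d3.i d3.T d3.tws && Nat.ble 177408000 (d3.b * d3.m) && Nat.blt 0 d3.m) = true := by decide +kernel
theorem lv6a : (okS dP.L d6.S && dP.gains 177 d6.i d6.S d6.sws && dP.cov 177 1408 d6.i [0, 1, 2, 3, 5, 6, 7, 8, 9] d6.S d6.es 0) = true := by decide +kernel
theorem lv6b : (dP.gains 177 d6.i d6.T d6.tws && Nat.ble 177408000 (d6.b * d6.m) && Nat.blt 0 d6.m) = true := by decide +kernel
theorem lv8a : (okS dP.L d8.S && dP.gains 177 d8.i d8.S d8.sws && dP.cov 177 1408 d8.i [0, 1, 2, 3, 5, 6, 7, 8, 9] d8.S d8.es 0) = true := by decide +kernel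
theorem lv8b : (dP.gains 177 d8.i d8.T d8.tws && Nat.ble 177408000 (d8.b * d8.m) && Nat.blt 0 d8.m) = true := by decide +kernel

end Cfsg.Agent.H15.Hn
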