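import Cfsg.Agent.H15.Hn.K
import Cfsg.Agent.H15.Hn.D1
import Cfsg.Agent.H15.Hn.D2
import Cfsg.Agent.H15.Hn.L0
import Cfsg.Agent.H15.Hn.L1
set_option autoImplicit false
set_option maxRecDepth 100000

namespace Cfsg.Agent.H15.Hn
open Cfsg.Agent.H15 Cfsg.Agent.H14

theorem pok : PermOk ap (invT pT 6) 1408 6 := PermOk.of hperm (by decide +kernel)
theorem sπ : Sat pok.perm (invT pT 6) pB := pok.sat (by decide +kernel) hrel
abbrev Γ : Type := grG (cut 6 E) pok.perm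
noncomputable def φ : Γ →* G := gr1 _ _
noncomputable def ρ : Γ →* Equiv.Perm (Fin 1408) := gr2 _ _
noncomputable def A : TabAct Γ (Via ρ) := pok.tab.via ρ (grE _ _) fun _ _ => rfl
theorem sΓ : Sat A.e (invT pT 6) pB := sat6.gr sπ
theorem topΓ : cl A.e 6 = ⊤ := gr_top (fun _ => cut_ge) pok.perm_ge
theorem cΓ3 : CardLe (⊤ : Subgroup Γ) (177408000 * 3) := topΓ ▸ bound3 sΓ
instance finΓ : Finite Γ := cΓ3.finite_top
theorem trans0 : A.seg 0 A.n ⊆ MulAction.orbit (⊤ : Subgroup Γ) (A.c 0) := A.trans_orb pok.full _ tr0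
theorem lo1_4 : A.Lower (gp A.e lo1_T4) [16] 2 := TabAct.Lower.step (k := 2) (A.lower_nil _) lo1_k4
theorem lo1_3 : A.Lower (gp A.e lo1_T3) [8, 16] 60 := TabAct.Lower.step (k := 30) lo1_4 lo1_k3
theorem lo1_2 : A.Lower (gp A.e lo1_T2) [7, 8, 16] 2520 := TabAct.Lower.step (k := 42) lo1_3 lo1_k2
theorem lo1_1 : A.Lower (gp A.e lo1_T1) [3, 7, 8, 16] 126000 := TabAct.Lower.step (k := 50) lo1_2 lo1_k1
theorem lo2_4 : A.Lower (gp A.e lo2_T4) [16] 2 := TabAct.Lower.step (k := 2) (A.lower_nil _) lo2_k4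
theorem lo2_3 : A.Lower (gp A.e lo2_T3) [8, 16] 60 := TabAct.Lower.step (k := 30) lo2_4 lo2_k3
theorem lo2_2 : A.Lower (gp A.e lo2_T2) [7, 8, 16] 2520 := TabAct.Lower.step (k := 42) lo2_3 lo2_k2
theorem lo2_0 : A.Lower (gp A.e lo2_T0) [0, 7, 8, 16] 80640 := TabAct.Lower.step (k := 32) lo2_2 lo2_k0
theorem lo3_4 : A.Lower (gp A.e lo3_T4) [16] 2 := TabAct.Lower.step (k := 2) (A.lower_nil _) lo3_k4
theorem lo3_3 : A.Lower (gp A.e lo3_T3) [8, 16] 60 := TabAct.Lower.step (k := 30) lo3_4 lo3_k3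
theorem lo3_2 : A.Lower (gp A.e lo3_T2) [7, 8, 16] 2520 := TabAct.Lower.step (k := 42) lo3_3 lo3_k2
theorem lo3_0 : A.Lower (gp A.e lo3_T0) [0, 7, 8, 16] 5040 := TabAct.Lower.step (k := 2) lo3_2 lo3_k0
theorem lo5_4 : A.Lower (gp A.e lo5_T4) [16] 2 := TabAct.Lower.step (k := 2) (A.lower_nil _) lo5_k4
theorem lo5_3 : A.Lower (gp A.e lo5_T3) [8, 16] 10 := TabAct.Lower.step (k := 5) lo5_4 lo5_k3
theorem lo5_2 : A.Lower (gp A.e lo5_T2) [7, 8, 16] 60 := TabAct.Lower.step (k := 6) lo5_3 lo5_k2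
theorem lo5_1 : A.Lower (gp A.e lo5_T1) [3, 7, 8, 16] 360 := TabAct.Lower.step (k := 6) lo5_2 lo5_k1
theorem lo5_0 : A.Lower (gp A.e lo5_T0) [0, 3, 7, 8, 16] 1440 := TabAct.Lower.step (k := 4) lo5_1 lo5_k0
theorem lo6_2 : A.Lower (gp A.e lo6_T2) [7] 10 := TabAct.Lower.step (k := 10) (A.lower_nil _) lo6_k2
theorem lo6_1 : A.Lower (gp A.e lo6_T1) [3, 7] 250 := TabAct.Lower.step (k := 25) lo6_2 lo6_k1
theorem lo6_0 : A.Lower (gp A.e lo6_T0) [0, 3, 7] 500 := TabAct.Lower.step (k := 2) lo6_1 lo6_k0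
theorem lo7_4 : A.Lower (gp A.e lo7_T4) [16] 2 := TabAct.Lower.step (k := 2) (A.lower_nil _) lo7_k4
theorem lo7_3 : A.Lower (gp A.e lo7_T3) [8, 16] 10 := TabAct.Lower.step (k := 5) lo7_4 lo7_k3
theorem lo7_2 : A.Lower (gp A.e lo7_T2) [7, 8, 16] 60 := TabAct.Lower.step (k := 6) lo7_3 lo7_k2
theorem lo7_1 : A.Lower (gp A.e lo7_T1) [3, 7, 8, 16] 120 := TabAct.Lower.step (k := 2) lo7_2 lo7_k1
theorem lo7_0 : A.Lower (gp A.e lo7_T0) [0, 3, 7, 8, 16] 240 := TabAct.Lower.step (k := 2) lo7_1 lo7_k0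
theorem lo8_4 : A.Lower (gp A.e lo8_T4) [16] 2 := TabAct.Lower.step (k := 2) (A.lower_nil _) lo8_k4
theorem lo8_3 : A.Lower (gp A.e lo8_T3) [8, 16] 12 := TabAct.Lower.step (k := 6) lo8_4 lo8_k3
theorem lo8_2 : A.Lower (gp A.e lo8_T2) [7, 8, 16] 24 := TabAct.Lower.step (k := 2) lo8_3 lo8_k2
theorem lo8_0 : A.Lower (gp A.e lo8_T0) [0, 7, 8, 16] 30720 := TabAct.Lower.step (k := 1280) lo8_2 lo8_k0
theorem lo9_2 : A.Lower (gp A.e lo9_T2) [7] 4 := TabAct.Lower.step (k := 4) (A.lower_nil _) lo9_k2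
theorem lo9_0 : A.Lower (gp A.e lo9_T0) [0, 7] 640 := TabAct.Lower.step (k := 160) lo9_2 lo9_k0
theorem lowT : A.Lower ⊤ [0, 3, 7, 8, 16] ((1408 - 0) * 126000) :=
  lo1_1.seg (a := 0) (by norm_num) le_rfl trans0 le_top (A.gp_le_stabilizer (by decide +kernel) (by decide +kernel) (by decide +kernel))
theorem ker3 : Nat.card ρ.ker ≤ 3 :=
  (Subgroup.card_le_of_le (le_inf le_top fun g hg => A.mem_fx.mpr fun b _ => by
    rw [Via.smul_def, (hg : ρ g = 1)]; rfl)).trans (lowT.card_inf_le (by norm_num) cΓ3.2)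
theorem cΓ : CardLe (⊤ : Subgroup Γ) 177408000 :=
  topΓ ▸ bound1 sΓ (kill3 ρ ker3 sΓ.hi (pok.rels (by decide +kernel) hk3))
theorem cardΓ : Nat.card Γ ≤ 177408000 := card_top_eq.ge.trans cΓ.2
theorem base : A.Base ⊤ bs := lowT.base cΓ.2
theorem low0 : 177408000 ≤ Nat.card (gp A.e (idW 6)) := by rw [gp_idW, topΓ]; exact lowT.le_card
def ds : List DL := [d0, d1, d2, d3, d5, d6, d7, d8, d9]
theorem live : ∀ d ∈ ds, DHyp.Live (P := dP) (A := A) 177 177408000 (ds.map (·.i)) d := by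
  simp only [ds, List.forall_mem_cons]
  exact ⟨⟨lv0a, lv0b, low0⟩, ⟨lv1a, lv1b, lo1_1.le_card⟩, ⟨lv2a, lv2b, lo2_0.le_card⟩, ⟨lv3a, lv3b, lo3_0.le_card⟩, ⟨lv5a, lv5b, lo5_0.le_card⟩, ⟨lv6a, lv6b, lo6_0.le_card⟩, ⟨lv7a, lv7b, lo7_0.le_card⟩, ⟨lv8a, lv8b, lo8_0.le_card⟩, ⟨lv9a, lv9b, lo9_0.le_card⟩, List.forall_mem_nil _⟩
theorem ksok : okS A.L ks = true := by decide +kernel
theorem kc3 : (A.comp ks ksok).Lower (gp (A.comp ks ksok).e kcT3) [16] 2 := TabAct.Lower.step (k := 2) ((A.comp ks ksok).lower_nil _) kck3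
theorem kc2 : (A.comp ks ksok).Lower (gp (A.comp ks ksok).e kcT2) [8, 16] 60 := TabAct.Lower.step (k := 30) kc3 kck2
theorem kc1 : (A.comp ks ksok).Lower (gp (A.comp ks ksok).e kcT1) [7, 8, 16] 2520 := TabAct.Lower.step (k := 42) kc2 kck1
theorem kc0 : (A.comp ks ksok).Lower (gp (A.comp ks ksok).e kcT0) [3, 7, 8, 16] 126000 := TabAct.Lower.step (k := 50) kc1 kck0
theorem hK : MulAction.stabilizer Γ (A.c 0) ≤ gp A.e dP.ks :=
  (A.stab_of_card (hs := ks) (m := 126000) cardΓ (cl_nth A.e ks ▸ kc0.le_gp (by decide +kernel)) (by norm_num) trans0 (by decide +kernel)).1.ge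
theorem st1 : gp A.e lo1_T1 = MulAction.stabilizer Γ (A.c 0) :=
  (A.stab_of_card (m := 126000) cardΓ lo1_1.le_card (by norm_num) trans0 (by decide +kernel)).1
theorem hφ (l : ℕ) : φ (A.e l) = cut 6 E l := rfl
theorem rφ : φ.range = cl (cut 6 E) 6 := gr1_range topΓ
theorem dh : DHyp dP A φ (E 6) ((1 : G) : G ⧸ φ.range) :=
  sat.dhyp (rs := rs) rfl rfl base sΓ.hi hφ 6 rfl [[([2, 6], 12, false)], [([3, 6, 2], 12, true)], [([], 10, false), ([7, 7], 11, true), ([], 11, true), ([1, 6, 2, 6], 12, false), ([1, 2, 6], 12, false), ([1, 2, 6, 0], 11, false), ([1, 2, 0], 11, false), ([1, 2, 0], 10, true)], [([], 10, false), ([7, 7], 11, true), ([], 11, true), ([1, 6, 3, 6, 2], 12, true), ([1, 3, 6, 2], 12, true), ([1, 3, 6, 0], 11, false), ([1, 3, 0], 11, false), ([1, 3, 0], 10, true)]]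
    [[([], 10, true), ([6, 6, 6, 1, 7, 0], 11, false), ([6, 1, 7, 0], 11, false), ([6, 1], 11, true)], [([6, 0, 6, 6], 11, true), ([6, 0, 6, 0], 11, false), ([6, 0, 0], 11, false), ([6, 0, 0], 10, true)], [([6, 0, 6, 6], 11, true)], [([6, 6], 11, true)], [([6], 11, true)], [([6], 13, true)]] (by decide +kernel)
theorem cov : DCov φ.range (ds.map fun d => (dh.p d.i, d.b)) ∧ ∀ d ∈ ds, ∀ γ ∈ gp A.e d.T, φ γ • dh.p d.i = dh.p d.i :=
  dh.main (dh.ok_of (a := 0) (fun _ h => absurd h (Nat.not_lt_zero _)) dgood) pok.full (by decide) hK cardΓ ds (by decide) live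
    (fun x => MulAction.exists_smul_eq G _ x) (rφ ▸ top_le_sup top (hi 6))

end Cfsg.Agent.H15.Hn
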