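import Cfsg.Agent.H15.Big8
import Cfsg.Agent.H15.Hn.H
import Cfsg.Prelude.Def_Sporadic
import Cfsg.Agent.H15.Hn.CS0
import Cfsg.Agent.H15.Hn.CS1
import Cfsg.Agent.H15.Hn.CS2
import Cfsg.Agent.H15.Hn.CS3
import Cfsg.Agent.H15.Hn.CS4
import Cfsg.Agent.H15.Hn.CS5
set_option autoImplicit false
set_option maxRecDepth 100000

namespace Cfsg.Agent.H15.Hn
open Cfsg.Agent.H15 Cfsg.Agent.H14

theorem MMok : MM.Ok := ⟨MMkc, (RAll.append (RAll.append (RAll.append (RAll.append MMk0 (RAll.append MMk8 MMk10)) (RAll.append MMk11 (RAll.append MMk12 MMk14))) (RAll.append (RAll.append MMk22 (RAll.append MMk30 MMk36)) (RAll.append (RAll.append MMk39 MMk42) (RAll.append MMk45 MMk50)))) (RAll.append (RAll.append (RAll.append MMk53 (RAll.append MMk55 MMk57)) (RAll.append MMk59 (RAll.append MMk60 MMk61))) (RAll.append (RAll.append MMk62 (RAll.append MMk64 MMk66)) (RAll.append (RAll.append MMk70 MMk71) (RAll.append MMk72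 MMk74)))))⟩
noncomputable def MMA := MMok.tab
theorem MMt : MT MMA MM.bs MM.iw := MMok.mt
theorem sMhi : ∀ l, cut 8 MMA.e (invT fT 8 l) = (cut 8 MMA.e l)⁻¹ := MMt.hi (by decide +kernel)
theorem sM : Sat (cut 8 MMA.e) (invT fT 8) BF :=
  (show (BF.drop 0).take 3 ++ ((BF.drop 3).take 1 ++ ((BF.drop 4).take 1 ++ ((BF.drop 5).take 3 ++ ((BF.drop 8).take 1 ++ ((BF.drop 9).take 1 ++ ((BF.drop 10).take 4)))))) = BF by decide +kernel) ▸ ((MMt.sat sMhi sM0).app ((MMt.sat sMhi sM1).app ((MMt.sat sMhi sM2).app ((MMt.sat sMhi sM3).app ((MMt.sat sMhi sM4).app ((MMt.sat sMhi sM5).app (MMt.sat sMhi sM6)))))))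
theorem alc : (allL (idW 20) (fun w => eqOn (fun x l => tr MM.ap (nthW als l) x) 20 MM.bs (appL w alz) (appL alz w)) &&
    neAt (fun x l => tr MM.ap (nthW als l) x) 20 (Nat.shiftLeft 1 (Nat.mul MM.w MM.m)) (2 ^ 0) [0, 20 - 1] [20 - 1, 0]) = true :=
  Bool.and_eq_true_iff.mpr ⟨allL_idW (RAll.append alc0 (RAll.append alc8 alc16)), aln⟩
noncomputable def alA := MMA.comp als (by decide +kernel)
theorem alb : alA.Base ⊤ MM.bs := MMt.base.comp _ _
theorem alq : Sat (fun l => QuotientGroup.mk' (Subgroup.normalClosure {lprod alA.own.e alz}) (lprod alA.own.e (nthW (idW alA.L) l)))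
    (invT Alt12.pT (idW alA.L).length) Alt12.pB :=
  (show (Alt12.pB.drop 0).take 8 ++ ((Alt12.pB.drop 8).take 7 ++ ((Alt12.pB.drop 15).take 6 ++ ((Alt12.pB.drop 21).take 6 ++ ((Alt12.pB.drop 27).take 6 ++ ((Alt12.pB.drop 33).take 6 ++ ((Alt12.pB.drop 39).take 6 ++ ((Alt12.pB.drop 45).take 6 ++ ((Alt12.pB.drop 51).take 4)))))))) = Alt12.pB by decide +kernel) ▸ ((alb.satq alz [0] alq0).app ((alb.satq alz [0] alq1).app ((alb.satq alz [0] alq2).app ((alb.satq alz [0] alq3).app ((alb.satq alz [0] alq4).app ((alb.satq alz [0] alq5).app ((alb.satq alz [0] alq6).app ((alb.satq alz [0] alq7).app (alb.satq alz [0] alq8)))))))))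
instance nzM : NeZero MM.p := ⟨by decide⟩
noncomputable def ψ : G →* GL (Fin MM.m) (ZMod MM.p) := (hom sM).choose
theorem hψ : ∀ l, ψ (E l) = cut 8 MMA.e l := (hom sM).choose_spec
theorem rψ : ∀ l, MMA.e l ∈ ψ.range := MMt.range ψ hψ (by decide +kernel)
theorem ψφ {w : List ℕ} (h : okW 6 w = true) : ψ (φ (lprod A.e w)) = lprod MMA.e w := map_cut hφ hψ (by norm_num) h
theorem al : ∃ f : cl alA.e alA.L →* alternatingGroup (Fin 12), Function.Surjective f ∧ f.ker = Subgroup.zpowers 1 :=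
  have := (center_alt (n := 12) (by norm_num)).1
  let ⟨_, h1, h2⟩ := Alt12.pack
  let ⟨_, f, b, c, _⟩ := alb.cover alz _ alc alq h1 h2 Alt12.bnd
  ⟨f, b, c⟩
theorem all : cl alA.e alA.L ≤ ψ.range := TabAct.comp_le _ rψ
theorem alN : Nat.card (cl alA.e alA.L) = 1 * 239500800 :=
  let ⟨_, b, c⟩ := al
  by rw [card_of_cover b c, orderOf_one, Alt12.card]
theorem c2d0 : 2 * 1 ∣ Nat.card (gp MMA.e c2T0) := TabAct.dvd_step (A := MMA) (k := 2) (m := 1) dvd_one_gp c2x0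
theorem c2d1 : 2 * 2 ∣ Nat.card (gp MMA.e c2T1) := TabAct.dvd_step (A := MMA) (k := 2) (m := 2) c2d0 c2x1
theorem c2d2 : 2 * 4 ∣ Nat.card (gp MMA.e c2T2) := TabAct.dvd_step (A := MMA) (k := 2) (m := 4) c2d1 c2x2
theorem c2d3 : 2 * 8 ∣ Nat.card (gp MMA.e c2T3) := TabAct.dvd_step (A := MMA) (k := 2) (m := 8) c2d2 c2x3
theorem c2d4 : 2 * 16 ∣ Nat.card (gp MMA.e c2T4) := TabAct.dvd_step (A := MMA) (k := 2) (m := 16) c2d3 c2x4
theorem c2d5 : 2 * 32 ∣ Nat.card (gp MMA.e c2T5) := TabAct.dvd_step (A := MMA) (k := 2) (m := 32) c2d4 c2x5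
theorem c2d6 : 12 * 64 ∣ Nat.card (gp MMA.e c2T6) := TabAct.dvd_step (A := MMA) (k := 12) (m := 64) c2d5 c2x6
theorem c2d7 : 40 * 768 ∣ Nat.card (gp MMA.e c2T7) := TabAct.dvd_step (A := MMA) (k := 40) (m := 768) c2d6 c2x7
theorem c2d8 : 120 * 30720 ∣ Nat.card (gp MMA.e c2T8) := TabAct.dvd_step (A := MMA) (k := 120) (m := 30720) c2d7 c2x8
theorem c2d : 3686400 ∣ Nat.card ψ.range := c2d8.trans (Subgroup.card_dvd_of_le (gp_le.mpr fun _ _ => lprod_mem fun a _ => rψ a))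
theorem c5d0 : 5 * 1 ∣ Nat.card (gp MMA.e c5T0) := TabAct.dvd_step (A := MMA) (k := 5) (m := 1) dvd_one_gp c5x0
theorem c5d1 : 25 * 5 ∣ Nat.card (gp MMA.e c5T1) := TabAct.dvd_step (A := MMA) (k := 25) (m := 5) c5d0 c5x1
theorem c5d2 : 125 * 125 ∣ Nat.card (gp MMA.e c5T2) := TabAct.dvd_step (A := MMA) (k := 125) (m := 125) c5d1 c5x2
theorem c5d : 15625 ∣ Nat.card ψ.range := c5d2.trans (Subgroup.card_dvd_of_le (gp_le.mpr fun _ _ => lprod_mem fun a _ => rψ a))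
theorem c3d0 : 3 * 1 ∣ Nat.card (gp MMA.e c3T0) := TabAct.dvd_step (A := MMA) (k := 3) (m := 1) dvd_one_gp c3x0
theorem c3d1 : 3 * 3 ∣ Nat.card (gp MMA.e c3T1) := TabAct.dvd_step (A := MMA) (k := 3) (m := 3) c3d0 c3x1
theorem c3d2 : 81 * 9 ∣ Nat.card (gp MMA.e c3T2) := TabAct.dvd_step (A := MMA) (k := 81) (m := 9) c3d1 c3x2
theorem c3d : 729 ∣ Nat.card ψ.range := c3d2.trans (Subgroup.card_dvd_of_le (gp_le.mpr fun _ _ => lprod_mem fun a _ => rψ a))
theorem d19 : 19 * 1 ∣ Nat.card ψ.range := (TabAct.dvd_step (A := MMA) dvd_one_gp x19).trans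
  (Subgroup.card_dvd_of_le (gp_le.mpr fun _ _ => lprod_mem fun a _ => rψ a))
theorem dvd : 1539000 * 177408000 ∣ Nat.card G :=
  Dvd.dvd.trans (by decide +kernel) (Nat.lcm_dvd (Nat.lcm_dvd (dvd_of_le_range ψ le_rfl c2d) (dvd_of_le_range ψ le_rfl c3d))
    (Nat.lcm_dvd (dvd_of_le_range ψ all alN.symm.dvd) (Nat.lcm_dvd (dvd_of_le_range ψ le_rfl c5d) (dvd_of_le_range ψ le_rfl d19))))
theorem fin : Finite G ∧ Nat.card G = 1539000 * 177408000 ∧ φ.range.index = 1539000 ∧ Nat.card φ.range = 177408000 ∧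
    Function.Injective φ ∧ IsCoatom φ.range ∧ (∀ N : Subgroup G, N.Normal → N ≤ φ.range → N = ⊥) :=
  let ⟨a, b, c, d, e, f, g, _⟩ :=
    dce_fin base trans0 pok.full cov.1 (by rw [List.map_map]; exact (by decide +kernel : (ds.map (·.b)).sum = 1539000)) cardΓ dvd
      (by norm_num) (by
        rw [List.map_map]
        exact (by decide +kernel : ∀ s ∈ subs (ds.map (·.b)), s ∣ 1539000 → s = 1 ∨ s = 1539000))
      (List.mem_map_of_mem (a := d1) (by simp [ds])) (st1 ▸ cov.2 d1 (by simp [ds]))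
  ⟨a, b, c, d, e, f, g⟩
instance finG : Finite G := fin.1
theorem ψ_inj : Function.Injective ψ := inj_of_coatom fin.2.2.2.2.2.1 fin.2.2.2.2.2.2 ψ d19 (by rw [fin.2.2.2.1]; norm_num)
theorem simple : IsSimpleGroup G :=
  simple_dce2 (q := 19) (m := 7) (k := 2) fin.2.2.2.2.2.1 fin.2.2.2.2.2.2 ψ_inj (rψ 76)
    (by rw [← lprod_single (E := MMA.e)]; exact MMt.base.pow g19a) fin.2.2.2.1
    (by norm_num) (by norm_num) (lprod A.e [4]) (by rw [ψφ (by decide), ← lprod_cons]; exact MMt.base.pow g19b)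
    (base.pow (by decide +kernel)) (by norm_num) fun N hN h => eq_top_iff.mpr
      ((top_of_inv sΓ.hi topΓ (ws := [[0], [2], [4]]) (by decide +kernel)).ge.trans
        (base.kill sΓ.hi hN [([0, 2, 2, 2, 0, 3], [0], 1, 3, 4), ([4, 2, 5, 3, 5], [2], 1, 5, 6)] _ (kill_known sΓ.hi hN 2 h) (by decide +kernel)))
theorem isHN : IsHN G := ⟨simple, fin.2.1⟩

end Cfsg.Agent.H15.Hn
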