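import Cfsg.Agent.H15.Hn.D0
set_option autoImplicit false
set_option maxRecDepth 100000

namespace Cfsg.Agent.H15.Hn
open Cfsg.Agent.H15 Cfsg.Agent.H14

def kcS3 : List (List ℕ) := [[0, 3, 1, 2, 0, 3, 1, 2]]
def kcT3 : List (List ℕ) := kcS3 ++ []
theorem kck3 : stepOk (fun x l => tr ap (nthW ks l) x) 4 1408 id kcS3 [] 16 2 = true := by decide +kernel
def kcS2 : List (List ℕ) := [[1, 3, 1, 3], [0, 3, 3, 0, 2], [1, 3, 0, 0, 3]]
def kcT2 : List (List ℕ) := kcS2 ++ kcT3
theorem kck2 : stepOk (fun x l => tr ap (nthW ks l) x) 4 1408 id kcS2 kcT3 8 30 = true := by decide +kernel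
def kcS1 : List (List ℕ) := [[0, 3, 0], [0, 2, 0, 2]]
def kcT1 : List (List ℕ) := kcS1 ++ kcT2
theorem kck1 : stepOk (fun x l => tr ap (nthW ks l) x) 4 1408 id kcS1 kcT2 7 42 = true := by decide +kernel
def kcS0 : List (List ℕ) := [[0], [2]]
def kcT0 : List (List ℕ) := kcS0 ++ kcT1
theorem kck0 : stepOk (fun x l => tr ap (nthW ks l) x) 4 1408 id kcS0 kcT1 3 50 = true := by decide +kernel
theorem tr0 : stepOk ap 6 1408 id [[0], [2], [4]] [] 0 1408 = true := by decide +kernel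
theorem hperm : RAll (permAt ap (invT pT 6) 1408 6) 0 1408 := RAll.of (by decide +kernel)
theorem hrel_0 : RAll (relsAt ap pB) 0 800 := RAll.of (by decide +kernel)
theorem hrel_800 : RAll (relsAt ap pB) 800 1408 := RAll.of (by decide +kernel)
theorem hrel : RAll (relsAt ap pB) 0 1408 :=
  (RAll.append hrel_0 hrel_800)
theorem hk3_0 : RAll (relsAt ap (k3B (invT pT 6) 2 kb ku kv)) 0 500 := RAll.of (by decide +kernel)
theorem hk3_500 : RAll (relsAt ap (k3B (invT pT 6) 2 kb ku kv)) 500 1000 := RAll.of (by decide +kernel)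
theorem hk3_1000 : RAll (relsAt ap (k3B (invT pT 6) 2 kb ku kv)) 1000 1408 := RAll.of (by decide +kernel)
theorem hk3 : RAll (relsAt ap (k3B (invT pT 6) 2 kb ku kv)) 0 1408 :=
  (RAll.append hk3_0 (RAll.append hk3_500 hk3_1000))

end Cfsg.Agent.H15.Hn
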