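import Cfsg.Agent.H15.Big7
import Cfsg.Prelude.Def_Spor_HN
import Cfsg.Agent.H15.HnT0
import Cfsg.Agent.H15.HnT1
import Cfsg.Agent.H15.HnT2
import Cfsg.Agent.H15.HnT3
import Cfsg.Agent.H15.HnT4
set_option autoImplicit false
set_option maxRecDepth 100000

namespace Cfsg.Agent.H15.Hn
open Cfsg.Agent.H15 Cfsg.Agent.H14

open Cfsg.Spor

abbrev G := Spor.HN
def ls : List (Spor.HN.Gen × Bool) := [(.x, false), (.x, true), (.y, false), (.y, true), (.z, false), (.z, true), (.t, false), (.t, true)]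
def E : ℕ → G := letters PresentedGroup.of ls
def fT : ℕ := 26873694793729
theorem hi : ∀ l, E (invT fT 8 l) = (E l)⁻¹ := letters_hi (ls := ls) _ (by decide +kernel)
def W : Spor.HN.Gen → List ℕ
  | .x => [0]
  | .y => [2]
  | .z => [4]
  | .t => [6]
theorem hW (x : Spor.HN.Gen) : PresentedGroup.of x = lprod E (W x) := by cases x <;> exact (mul_one _).symm
def BF : List (List ℕ × ℕ) := [([2, 2, 2, 2, 2, 2], 1), ([0, 0, 2, 0, 0, 3], 1), ([1, 3, 0, 2, 1, 3, 0, 2, 1, 3, 0, 2], 1), ([1, 2, 2, 0, 2, 2, 2, 1, 2, 2, 0, 2, 2, 2, 1, 2, 2, 0, 2, 2, 2], 1), ([0, 2, 0, 2, 0, 2, 0, 2, 0, 2, 0, 2, 0, 2, 0, 2], 1), ([0, 2, 0, 2, 2, 2, 0, 2, 0, 2, 2, 2, 0, 2, 0, 2, 2, 2, 0, 2, 0, 2, 2, 2], 1), ([4, 4], 1), ([4, 0, 4, 0], 1), ([5, 2, 1, 3, 3, 1, 3, 1, 3, 4, 2, 0, 2, 0, 2, 2, 0, 3, 1, 1], 1), ([4, 3, 1, 3, 1, 3, 3, 3, 4,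 2, 2, 2, 0, 2, 0, 2, 0, 3, 1, 3, 1, 3, 3, 3, 4, 2, 2, 2, 0, 2, 0, 2, 0, 3, 1, 3, 1, 3, 3, 3, 4, 2, 2, 2, 0, 2, 0, 2, 0], 1), ([6, 6, 6, 6, 6], 1), ([1, 6, 0, 6, 6], 1), ([7, 3, 6, 2], 1), ([4, 6, 4, 6, 4, 6], 1)]
theorem BF_eq : auxB W (invT fT 8) Spor.HN.extra = BF := by decide +kernel
theorem sat : Sat E (invT fT 8) BF := BF_eq ▸ aux_rels hi hW
theorem top : cl E 8 = ⊤ := aux_top hW fun x => by cases x <;> rfl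
theorem hom {H : Type*} [Group H] {e : ℕ → H} (h : Sat (cut 8 e) (invT fT 8) BF) :
    ∃ ψ : G →* H, ∀ l, ψ (E l) = cut 8 e l := by
  obtain ⟨ψ, hψ⟩ := aux_hom (BF_eq ▸ h)
  refine ⟨ψ, fun l => ?_⟩
  refine (map_letters ψ _ ls l).trans ?_
  by_cases hl : l < 8
  · exact letters_eq h.hi hψ ((by decide +kernel : ∀ l < 8, ∃ p ∈ ls[l]?, W p.1 = [bif p.2 then invT fT 8 l else l]) l hl)
  · rw [cut_ge (not_lt.mp hl), letters, List.getElem?_eq_none (not_lt.mp hl)]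
def pT : ℕ := 4379389953
def pB : List (List ℕ × ℕ) := [([2], 6), ([0, 0, 2, 0, 0, 3], 1), ([1, 3, 0, 2], 3), ([1, 2, 2, 0, 2, 2, 2], 3), ([0, 2], 8), ([0, 2, 0, 2, 2, 2], 4), ([4], 2), ([4, 0], 2), ([5, 2, 1, 3, 3, 1, 3, 1, 3, 4, 2, 0, 2, 0, 2, 2, 0, 3, 1, 1], 1), ([4, 3, 1, 3, 1, 3, 3, 3, 4, 2, 2, 2, 0, 2, 0, 2, 0, 3, 1, 3, 1, 3, 3, 3, 4, 2, 2, 2, 0, 2, 0, 2, 0, 3, 1, 3, 1, 3, 3, 3, 4, 2, 2, 2, 0, 2, 0, 2, 0], 1)]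
theorem sat6 : Sat (cut 6 E) (invT pT 6) pB := sat.cut [[([], 0, true)], [([], 1, true)], [([], 2, true)], [([], 3, true)], [([], 4, true)], [([], 5, true)], [([], 6, true)], [([], 7, true)], [([], 8, true)], [([], 9, true)]] (by decide +kernel)
def k1 : List (List ℕ) := [[2], [3], [0, 2, 2, 2, 0], [1, 3, 3, 3, 1]]
def k2 : List (List ℕ) := [[2], [3], [0, 2, 2, 2, 0], [1, 3, 3, 3, 1], [3, 3, 1, 3, 1, 3, 1, 3, 3, 3, 1, 2, 1, 3, 3, 3, 1, 3, 1, 3, 1, 2, 2, 0, 2, 0, 2, 0, 2, 2, 2, 0, 3, 0, 2, 2, 2, 0, 2, 0, 2, 0], [1, 3, 1, 3, 1, 3, 3, 3, 1, 2, 1, 3, 3, 3, 1, 3, 1, 3, 1, 3, 3, 0, 2, 0, 2, 0, 2, 2, 2, 0, 3, 0, 2, 2, 2, 0, 2, 0, 2, 0, 2, 2]]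
theorem bound0 {H : Type*} [Group H] {E : ℕ → H} (h : Sat E (invT pT 6) pB) : CardLe (gp E k1) (40 * (6 * 1)) :=
  have c0 : CardLe (gp E [[2], [3]]) (6 * 1) := cardLe_nil.step (HnT0.idx h.hi h.hB [[2], [3]] (by decide +kernel)) (by decide +kernel)
  c0.step (HnT1.idx h.hi h.hB [[0], [1], [2], [3], [0, 2, 2, 2, 0], [1, 3, 3, 3, 1]] (by decide +kernel)) (by decide +kernel)
theorem boundm {H : Type*} [Group H] {E : ℕ → H} (h : Sat E (invT pT 6) pB) {m : ℕ} (c2 : CardLe (gp E k2) m) : CardLe (cl E 6) (352 * (2100 * m)) := by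
  have c3 : CardLe (gp E [[0], [1], [2], [3]]) (2100 * m) := c2.step (HnT3.idx h.hi h.hB [[0], [1], [2], [3], [0, 2, 2, 2, 0], [1, 3, 3, 3, 1], [3, 3, 1, 3, 1, 3, 1, 3, 3, 3, 1, 2, 1, 3, 3, 3, 1, 3, 1, 3, 1, 2, 2, 0, 2, 0, 2, 0, 2, 2, 2, 0, 3, 0, 2, 2, 2, 0, 2, 0, 2, 0], [1, 3, 1, 3, 1, 3, 3, 3, 1, 2, 1, 3, 3, 3, 1, 3, 1, 3, 1, 3, 3, 0, 2, 0, 2, 0, 2, 2, 2, 0, 3, 0, 2, 2, 2, 0, 2, 0, 2, 0, 2, 2]] (by decide +kernel)) (by decide +kernel)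
  rw [cl_eq_gp (ws := [[0], [1], [2], [3], [4], [5]]) (by decide +kernel)]
  exact c3.step (HnT4.idx h.hi h.hB [[0], [1], [2], [3], [4], [5]] (by decide +kernel)) (by decide +kernel)
theorem bound3 {H : Type*} [Group H] {E : ℕ → H} (h : Sat E (invT pT 6) pB) : CardLe (cl E 6) (177408000 * 3) :=
  boundm h (m := 3 * (40 * (6 * 1))) ((bound0 h).step (HnT2.idx h.hi h.hB [[0], [1], [2], [3], [0, 2, 2, 2, 0], [1, 3, 3, 3, 1], [3, 3, 1, 3, 1, 3, 1, 3, 3, 3, 1, 2, 1, 3, 3, 3, 1, 3, 1, 3, 1, 2, 2, 0, 2, 0, 2, 0, 2, 2, 2, 0, 3, 0, 2, 2, 2, 0, 2, 0, 2, 0], [1, 3, 1, 3, 1, 3, 3, 3, 1, 2, 1, 3, 3, 3, 1, 3, 1, 3, 1, 3, 3, 0, 2, 0, 2, 0, 2, 2, 2, 0, 3, 0, 2, 2, 2, 0, 2, 0, 2, 0, 2, 2]] (by decide +kernel)) (by decide +kernel))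
def kb : List ℕ := [0, 2, 0, 2, 0, 2, 2, 2, 0, 3, 0, 2, 2, 2, 0, 2, 0, 2, 0]
def ku : List ℕ := [1, 3, 1, 3, 1, 2, 2, 1, 3, 3, 0, 3, 0, 3, 0, 3, 0, 3, 1, 2, 0, 3, 1, 3, 1, 3, 1, 2, 2, 1, 3, 3, 3, 3, 1, 2, 0, 3, 4, 2, 4, 2, 0, 2, 2, 0]
def kv : List ℕ := [2, 1, 3, 0, 2, 2, 0, 2, 0, 2, 0, 2, 0, 3, 0, 3, 0, 2, 2, 0, 3, 0, 3, 3, 1, 3, 0, 2, 1, 2, 0, 0, 4, 3, 4, 3, 4, 3, 4, 2, 2, 0]
theorem bound1 {H : Type*} [Group H] {E : ℕ → H} (h : Sat E (invT pT 6) pB) (hc : lprod E (cmW (invT pT 6) [2, 2] kb) = 1) : CardLe (cl E 6) 177408000 :=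
  boundm h ((bound0 h).kill h.hi hc (by decide +kernel))
theorem hH : (Subgroup.closure ({Spor.HN.x, Spor.HN.y, Spor.HN.z} : Set (FreeGroup Spor.HN.Gen))).map
    (PresentedGroup.mk (Spor.coxRelators Spor.HN.edges ∪ {r | r ∈ Spor.HN.extra})) = cl (cut 6 E) 6 := by
  rw [cl_cut, MonoidHom.map_closure]
  refine le_antisymm ((Subgroup.closure_le _).mpr ?_) (cl_le.mpr fun l hl => ?_)
  · rintro _ ⟨_, rfl | rfl | rfl, rfl⟩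
    exacts [mem_cl (e := E) (l := 0) (by omega), mem_cl (e := E) (l := 2) (by omega), mem_cl (e := E) (l := 4) (by omega)]
  · have h := fun x (h : x ∈ ({Spor.HN.x, Spor.HN.y, Spor.HN.z} : Set (FreeGroup Spor.HN.Gen))) =>
      Subgroup.subset_closure (Set.mem_image_of_mem
        (PresentedGroup.mk (Spor.coxRelators Spor.HN.edges ∪ {r | r ∈ Spor.HN.extra})) h)
    interval_cases l
    exacts [h Spor.HN.x (by simp), inv_mem (h Spor.HN.x (by simp)), h Spor.HN.y (by simp), inv_mem (h Spor.HN.y (by simp)),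
      h Spor.HN.z (by simp), inv_mem (h Spor.HN.z (by simp))]

end Cfsg.Agent.H15.Hn
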