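import Cfsg.Agent.H15.Hn.D0
import Cfsg.Agent.H25.HSM
set_option autoImplicit false
set_option maxRecDepth 100000

namespace Cfsg.Agent.H15.Hn
open Cfsg.Agent.H15 Cfsg.Agent.H14

def kw : List (List ℕ) := [[0, 3, 0, 2, 0, 2, 0, 3, 0, 3, 0, 2, 0, 2, 0, 3, 3, 0, 3, 0, 3, 3, 3, 1, 2, 1, 2, 2, 0, 2, 0, 2, 0, 2, 0, 3, 1, 2, 0, 3, 3, 0, 3, 0, 2, 2, 0, 3, 0, 3, 3, 3, 1, 2, 0, 3, 3, 0, 4, 3, 4, 3, 0, 3], [3, 0, 3, 0, 3, 3, 3, 1, 2, 1, 1, 2, 0, 3, 3, 1, 2, 0, 3], [3, 0, 3, 0, 3, 3, 3, 1, 2, 1, 2, 2, 0, 2, 0, 2, 0, 2, 0, 2, 1, 3, 0, 0, 3, 0, 3, 0, 3, 0, 3, 3, 3, 1, 2, 0, 3, 0, 4, 3, 0, 4], [0, 3, 0, 2, 0, 2, 0, 3, 0, 3, 0, 2, 0, 2, 0, 3, 3, 0, 3, 0, 3, 3, 3, 1, 2, 1, 2, 2, 0, 3, 3, 0, 2, 0, 2, 0, 2, 1, 3, 0, 2, 0, 3, 0, 2, 0, 2, 0, 3, 0, 3, 0,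 2, 0, 0, 2, 2, 2, 1, 3, 0, 2, 0, 4, 2, 2, 1, 2, 4, 3, 3], [1, 3, 1, 3, 1, 2, 2, 1, 3, 3, 0, 3, 0, 3, 0, 3, 0, 3, 0, 3, 0, 2, 2, 0, 3, 0, 3, 1, 2, 0, 0, 2, 0, 2, 0, 2, 0, 3, 1, 2, 0, 3, 3, 3, 1, 3, 0, 2, 4, 2, 0, 2, 4, 2], [0, 3, 0, 2, 0, 2, 0, 3, 0, 3, 0, 2, 0, 2, 0, 3, 1, 3, 1, 3, 1, 2, 2, 1, 3, 3, 0, 3, 0, 3, 0, 3, 0, 3, 0, 3, 0, 2, 2, 0, 3, 0, 2, 0, 2, 0, 2, 0, 2, 0, 3, 1, 2, 0, 3, 3, 0, 3, 0, 3, 0, 3, 0, 2, 2, 1, 3, 0, 2, 2, 0, 4, 2, 4, 3, 3, 4, 3, 0, 4], [1, 3, 1, 3, 1, 2, 2, 1, 1, 3, 0, 2, 2, 1, 3, 0, 2, 2, 0, 2, 0, 2, 0, 2, 0, 3, 1, 2, 0, 3, 3, 3, 1, 2, 0, 3, 3, 0, 4, 3, 4, 2, 2, 1]]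
def ky : List ℕ := [6, 5, 1, 3, 6, 2]
noncomputable def kap (x l : ℕ) : ℕ := tr ap (nthW kw l) x
def hsS4 : List (List ℕ) := [[2, 6, 4, 1, 6, 1, 5, 4, 1, 3, 1, 4, 5, 1, 6, 1, 4, 6, 2]]
def hsT4 : List (List ℕ) := hsS4 ++ []
theorem hsk4 : stepOk kap 7 1408 id hsS4 [] 16 2 = true := by decide +kernel
def hsS3 : List (List ℕ) := [[2, 3, 2, 1, 0], [2, 3, 0, 0, 0, 0, 0, 0, 0, 0, 0, 0, 2], [6, 1, 4, 5, 3, 1, 3, 4, 6, 0, 0]]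
def hsT3 : List (List ℕ) := hsS3 ++ hsT4
theorem hsk3 : stepOk kap 7 1408 id hsS3 hsT4 8 30 = true := by decide +kernel
def hsS2 : List (List ℕ) := [[1], [6, 0, 0, 0, 0, 0, 0, 0, 0, 0, 0], [4, 6, 5, 0, 1, 6, 0, 4], [1, 3, 2, 3, 4, 1, 0, 0, 0, 0, 0, 4]]
def hsT2 : List (List ℕ) := hsS2 ++ hsT3
theorem hsk2 : stepOk kap 7 1408 id hsS2 hsT3 7 42 = true := by decide +kernel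
def hsS1 : List (List ℕ) := [[4, 5, 4, 0, 0, 0, 0, 0], [4, 2, 6, 4, 2], [2, 3, 4, 5, 4, 1, 0]]
def hsT1 : List (List ℕ) := hsS1 ++ hsT2
theorem hsk1 : stepOk kap 7 1408 id hsS1 hsT2 3 50 = true := by decide +kernel
def hsS0 : List (List ℕ) := [[2], [3], [4], [5], [6]]
def hsT0 : List (List ℕ) := hsS0 ++ hsT1
theorem hsk0 : stepOk kap 7 1408 id hsS0 hsT1 0 704 = true := by decide +kernel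
theorem hsP : allL H25.HSM.P (fun w => eqOn kap 7 bs w [] || eqOn kap 7 bs w (repL ky 2)) = true := by decide +kernel
theorem hsC : allL (idW 7) (fun w => eqOn kap 7 bs (appL w (repL ky 2)) (appL (repL ky 2) w)) = true := by decide +kernel

end Cfsg.Agent.H15.Hn
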