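import Cfsg.Agent.H15.Big8
import Cfsg.Agent.H15.Hn.H
import Cfsg.Agent.H15.Hn.S0
set_option autoImplicit false
set_option maxRecDepth 100000

namespace Cfsg.Agent.H15.Hn
open Cfsg.Agent.H15 Cfsg.Agent.H14

theorem kwok : okS A.L kw = true := by decide +kernel
noncomputable def AK : TabAct Γ (Via ρ) := A.comp kw kwok
theorem bK : AK.Base ⊤ bs := base.comp _ _
theorem hs4 : AK.Lower (gp AK.e hsT4) [16] 2 := TabAct.Lower.step (k := 2) (AK.lower_nil _) hsk4
theorem hs3 : AK.Lower (gp AK.e hsT3) [8, 16] 60 := TabAct.Lower.step (k := 30) hs4 hsk3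
theorem hs2 : AK.Lower (gp AK.e hsT2) [7, 8, 16] 2520 := TabAct.Lower.step (k := 42) hs3 hsk2
theorem hs1 : AK.Lower (gp AK.e hsT1) [3, 7, 8, 16] 126000 := TabAct.Lower.step (k := 50) hs2 hsk1
theorem hs0 : AK.Lower (gp AK.e hsT0) [0, 3, 7, 8, 16] 88704000 := TabAct.Lower.step (k := 704) hs1 hsk0
theorem hs : IsNonsplitDoubleCover (cl AK.e AK.L) Spor.HS ∧ Nat.card (cl AK.e AK.L) = 2 * 44352000 :=
  bK.cover_rel (fun a h => congrArg (lprod A.e) (nthW_of_le h)) H25.HSM.relP H25.HSM.htb.1 (fun a h => H25.Leech.lk_ge (Ms := H25.HSM.Ms) a h) H25.HSM.hP ky 0 hsP hsC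
    (by decide +kernel) H25.HSM.hcard ((hs0.mono (gp_le_idW (by decide +kernel))).le_card)
    (have := H25.Leech.simple_HS; center_eq_bot_of_simple (by rw [H25.HSM.hcard]; norm_num))

end Cfsg.Agent.H15.Hn
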